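import Groth.Agent.VarDim.Basic
import Mathlib.RingTheory.Ideal.AssociatedPrime.Finiteness
import Mathlib.RingTheory.Ideal.AssociatedPrime.Localization
import Mathlib.RingTheory.NoetherNormalization
import Mathlib.RingTheory.Polynomial.UniqueFactorization

/-!
# Embedded primes of the sections of an equidimensional module

For a finite module all of whose associated primes have dimension `d`, only finitely many primes of
dimension at most `d - 2` are associated primes of a quotient by a regular element.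
-/

set_option autoImplicit false
set_option maxHeartbeats 1000000
set_option backward.isDefEq.respectTransparency false
set_option linter.style.haveILetI false

universe u

open Order

namespace Groth.Agent.GrothLem

/-- A finite torsion-free module contains a free module with bounded cokernel. -/
theorem exists_free_sub {R M : Type u} [CommRing R] [IsDomain R] [AddCommGroup M] [Module R M]
    [Module.Finite R M] :
    ∃ (ι : Type) (_ : Fintype ι) (ψ : (ι → R) →ₗ[R] M) (c : R), c ≠ 0 ∧ Function.Injective ψ ∧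
      ∀ x : M, c • x ∈ LinearMap.range ψ := by
  classical
  obtain ⟨n, v, hv⟩ := Module.Finite.exists_fin (R := R) (M := M)
  obtain ⟨s, hs, hmax⟩ := exists_maximal_linearIndepOn R v
  have : ∀ i, ∃ a : R, a ≠ 0 ∧ a • v i ∈ Submodule.span R (v '' s) := fun i => by
    by_cases hi : i ∈ s
    · exact ⟨1, one_ne_zero, by rw [one_smul]; exact Submodule.subset_span ⟨i, hi, rfl⟩⟩
    · exact hmax i hi
  choose a ha hav using this
  refine ⟨s, inferInstance, Fintype.linearCombination R fun i : s => v i, ∏ i, a i,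
    Finset.prod_ne_zero_iff.2 fun i _ => ha i,
    (linearIndependent_iff_injective_fintypeLinearCombination.1 hs), fun x => ?_⟩
  have hrange : LinearMap.range (Fintype.linearCombination R fun i : s => v i) = Submodule.span R (v '' s) := by
    rw [Fintype.range_linearCombination, Set.image_eq_range]
  rw [hrange]
  have hx : x ∈ Submodule.span R (Set.range v) := hv ▸ Submodule.mem_top
  induction hx using Submodule.span_induction with
  | mem y hy =>
    obtain ⟨i, rfl⟩ := hy
    obtain ⟨d, hd⟩ : a i ∣ ∏ j, a j := Finset.dvd_prod_of_mem a (Finset.mem_univ i)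
    rw [hd, mul_comm, mul_smul]
    exact Submodule.smul_mem _ _ (hav i)
  | zero => rw [smul_zero]; exact zero_mem _
  | add y z _ _ hy hz => rw [smul_add]; exact add_mem hy hz
  | smul r y _ hy => rw [smul_comm]; exact Submodule.smul_mem _ _ hy

/-- `q` is the annihilator of the class of `v` modulo `g`, up to elements outside `q`. -/
theorem mem_associatedPrimes_smul {B M : Type u} [CommRing B] [IsNoetherianRing B] [AddCommGroup M] [Module B M]
    {q : Ideal B} [hq : q.IsPrime] {f g t : B} {u v : M} (hf : IsSMulRegular M f)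
    (hg : ∀ x : M, g • x = 0 → ∃ t ∉ q, t • x = 0)
    (hv : ∀ c : B, c ∈ q ↔ ∃ t ∉ q, ∃ w : M, (t * c) • v = g • w) (ht : t ∉ q) (hu : (t * f) • v = g • u) :
    q ∈ associatedPrimes B (QuotSMulTop f M) := by
  have hcol : ∀ c : B, c ∈ (⊥ : Submodule B (QuotSMulTop f M)).colon {Submodule.Quotient.mk u} ↔
      ∃ w : M, c • u = f • w := fun c => by
    rw [Submodule.mem_colon_singleton, Submodule.mem_bot, ← Submodule.Quotient.mk_smul,
      Submodule.Quotient.mk_eq_zero, Submodule.mem_smul_pointwise_iff_exists]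
    simp only [Submodule.mem_top, true_and, eq_comm]
  have hle : (⊥ : Submodule B (QuotSMulTop f M)).colon {Submodule.Quotient.mk u} ≤ q := by
    intro c hc
    obtain ⟨w, hw⟩ := (hcol c).1 hc
    refine (hv c).2 ⟨t, ht, w, hf ?_⟩
    dsimp only
    rw [smul_comm f g, ← hw, smul_comm g c, ← hu, smul_smul, smul_smul]
    ring_nf
  have hge : ∀ c ∈ q, ∃ e ∉ q, e * c ∈ (⊥ : Submodule B (QuotSMulTop f M)).colon {Submodule.Quotient.mk u} := by
    intro c hc
    obtain ⟨t', ht', w, hw⟩ := (hv c).1 hc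
    obtain ⟨t'', ht'', h⟩ := hg ((t' * c) • u - (t * f) • w) (by
      rw [smul_sub, smul_comm g (t' * c), ← hu, smul_comm g (t * f), ← hw, smul_smul, smul_smul, mul_comm,
        sub_self])
    refine ⟨t'' * t', fun hmem => (hq.mem_or_mem hmem).elim ht'' ht', (hcol _).2 ⟨(t'' * t) • w, ?_⟩⟩
    rw [smul_sub, sub_eq_zero, smul_smul, smul_smul] at h
    rw [mul_assoc, h, smul_smul]
    ring_nf
  refine isAssociatedPrime_iff.2 ⟨hq, Submodule.exists_eq_colon_of_mem_minimalPrimes
    (x := Submodule.Quotient.mk u) ⟨⟨hq, hle⟩, fun r hr hrq c hc => ?_⟩⟩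
  obtain ⟨e, he, hec⟩ := hge c hc
  exact (hr.1.mem_or_mem (hr.2 hec)).resolve_left fun h => he (hrq h)

section Core

variable {k : Type u} [Field k]

/-- The key argument over a normalised ring. -/
theorem mem_or_of_normalised {s : ℕ} {C M : Type u} [CommRing C] [IsNoetherianRing C]
    [Algebra (MvPolynomial (Fin s) k) C] [Algebra.IsIntegral (MvPolynomial (Fin s) k) C]
    [AddCommGroup M] [Module C M] [Module (MvPolynomial (Fin s) k) M]
    [IsScalarTower (MvPolynomial (Fin s) k) C M] {ι : Type} (ψ : (ι → MvPolynomial (Fin s) k) →ₗ[MvPolynomial (Fin s) k] M)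
    {c : MvPolynomial (Fin s) k} (hψ : Function.Injective ψ) (hc : ∀ x : M, c • x ∈ LinearMap.range ψ)
    (htf : ∀ a : MvPolynomial (Fin s) k, a ≠ 0 → IsSMulRegular M a)
    (q : PrimeSpectrum C) (hq : coheight q + 2 ≤ (s : ℕ∞)) {g : C}
    (hg : ∀ x : M, g • x = 0 → ∃ t ∉ q.asIdeal, t • x = 0) {v : M}
    (hv : ∀ e : C, e ∈ q.asIdeal ↔ ∃ t ∉ q.asIdeal, ∃ w : M, (t * e) • v = g • w) :
    algebraMap (MvPolynomial (Fin s) k) C c ∈ q.asIdeal := by
  by_contra hcq
  let p : PrimeSpectrum (MvPolynomial (Fin s) k) := PrimeSpectrum.comap (algebraMap _ C) q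
  have hp : coheight p = coheight q := VarDim.coheight_comap q
  have hp0 : p.asIdeal ≠ ⊥ := fun h => by
    have h1 := VarDim.coheight_eq_ringKrullDim_quotient p
    rw [h, ringKrullDim_eq_of_ringEquiv (RingEquiv.quotientBot (MvPolynomial (Fin s) k)),
      MvPolynomial.ringKrullDim_of_isNoetherianRing, ringKrullDim_eq_zero_of_field, zero_add, Nat.card_fin,
      hp] at h1
    rw [WithBot.coe_inj.1 (h1.trans (by rfl : (s : WithBot ℕ∞) = ((s : ℕ∞) : WithBot ℕ∞)))] at hq
    have hq' : s + 2 ≤ s := by exact_mod_cast hq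
    omega
  obtain ⟨a, hap, ha⟩ := Ideal.IsPrime.exists_mem_prime_of_ne_bot p.isPrime hp0
  obtain ⟨b, hbp, hb⟩ : ∃ b ∈ p.asIdeal, ¬ a ∣ b := by
    by_contra! h
    have he : p.asIdeal = Ideal.span {a} := le_antisymm (fun x hx => Ideal.mem_span_singleton.2 (h x hx))
      ((Ideal.span_singleton_le_iff_mem _).2 hap)
    obtain ⟨m, hm, hdim⟩ := VarDim.ringKrullDim_quotient_span_prime k ha
    have h1 := VarDim.coheight_eq_ringKrullDim_quotient p
    rw [he, hdim, hp] at h1
    rw [WithBot.coe_inj.1 (h1.trans (by rfl : (m : WithBot ℕ∞) = ((m : ℕ∞) : WithBot ℕ∞)))] at hq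
    have hq' : m + 2 ≤ s := by exact_mod_cast hq
    omega
  obtain ⟨t₁, ht₁, u₀, hu₀⟩ := (hv _).1 (show algebraMap (MvPolynomial (Fin s) k) C a ∈ q.asIdeal from hap)
  obtain ⟨t₂, ht₂, w₀, hw₀⟩ := (hv _).1 (show algebraMap (MvPolynomial (Fin s) k) C b ∈ q.asIdeal from hbp)
  rw [mul_smul, algebraMap_smul] at hu₀ hw₀
  obtain ⟨t₃, ht₃, h0⟩ := hg (b • (t₂ • u₀) - a • (t₁ • w₀)) (by
    rw [smul_sub, smul_comm g b, smul_comm g t₂, ← hu₀, smul_comm g a, smul_comm g t₁, ← hw₀, sub_eq_zero,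
      smul_comm t₂ t₁, smul_comm b t₁, smul_comm b t₂, smul_comm a t₁, smul_comm a t₂, smul_comm b a])
  rw [smul_sub, sub_eq_zero, smul_comm t₃ b, smul_comm t₃ a] at h0
  let u : M := t₃ • t₂ • u₀
  let w : M := t₃ • t₁ • w₀
  have h1 : b • u = a • w := h0
  have hu : a • ((t₃ * t₂ * t₁) • v) = g • u := by
    show _ = g • t₃ • t₂ • u₀
    rw [smul_comm g t₃, smul_comm g t₂, ← hu₀, mul_smul, mul_smul, smul_comm a t₃, smul_comm a t₂,
      smul_comm a t₁]
  obtain ⟨z₁, hz₁⟩ := hc u
  obtain ⟨z₂, hz₂⟩ := hc w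
  have h2 : b • z₁ = a • z₂ := hψ (by
    rw [map_smul, map_smul, hz₁, hz₂, smul_comm b c, h1, smul_comm])
  have h3 : ∀ i, a ∣ z₁ i := fun i => by
    have h4 : b * z₁ i = a * z₂ i := congrFun h2 i
    exact (ha.dvd_mul.1 ⟨z₂ i, h4⟩).resolve_left hb
  choose z hz using h3
  have h5 : c • u = a • ψ z := by
    rw [← hz₁, ← map_smul]
    exact congrArg ψ (funext hz)
  refine hcq ((hv _).2 ⟨t₃ * t₂ * t₁, fun hmem => ?_, ψ z, htf a ha.ne_zero ?_⟩)
  · rcases q.isPrime.mem_or_mem hmem with h | h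
    · exact (q.isPrime.mem_or_mem h).elim ht₃ ht₂
    · exact ht₁ h
  dsimp only
  rw [mul_smul, algebraMap_smul, smul_comm (t₃ * t₂ * t₁) c, smul_comm a c, hu, ← smul_comm g c, h5, smul_comm]

end Core

/-- Finitely many bad primes. -/
theorem finite_bad {k : Type u} [Field k] {B M : Type u} [CommRing B] [Algebra k B] [Algebra.FiniteType k B]
    [AddCommGroup M] [Module B M] [Module.Finite B M] (d : ℕ)
    (hass : ∀ P : PrimeSpectrum B, P.asIdeal ∈ associatedPrimes B M → coheight P = d) :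
    {q : PrimeSpectrum B | coheight q + 2 ≤ (d : ℕ∞) ∧
      ∃ g : B, (∀ x : M, g • x = 0 → ∃ t ∉ q.asIdeal, t • x = 0) ∧
        ∃ v : M, ∀ c : B, c ∈ q.asIdeal ↔ ∃ t ∉ q.asIdeal, ∃ w : M, (t * c) • v = g • w}.Finite := by
  haveI : IsNoetherianRing B := Algebra.FiniteType.isNoetherianRing k B
  rcases subsingleton_or_nontrivial M with hM | hM
  · refine Set.Finite.subset Set.finite_empty fun q hq => ?_
    obtain ⟨-, g, -, v, hv⟩ := hq
    exact q.isPrime.ne_top ((Ideal.eq_top_iff_one _).2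
      ((hv 1).2 ⟨1, fun h => q.isPrime.ne_top ((Ideal.eq_top_iff_one _).2 h), 0, Subsingleton.elim _ _⟩))
  let I := Module.annihilator B M
  letI : Module (B ⧸ I) M := Module.quotientAnnihilator
  haveI : IsScalarTower B (B ⧸ I) M := ⟨fun b c m => by
    obtain ⟨c, rfl⟩ := Ideal.Quotient.mk_surjective c
    exact mul_smul b c m⟩
  have hne : Nontrivial (B ⧸ I) := Ideal.Quotient.nontrivial_iff.2 (fun h => not_subsingleton M
    (Module.annihilator_eq_top_iff.1 h))
  obtain ⟨s, e, he, hfin⟩ := exists_finite_inj_algHom_of_fg k (B ⧸ I)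
  letI : Algebra (MvPolynomial (Fin s) k) (B ⧸ I) := e.toRingHom.toAlgebra
  haveI : Module.Finite (MvPolynomial (Fin s) k) (B ⧸ I) := hfin
  haveI : FaithfulSMul (MvPolynomial (Fin s) k) (B ⧸ I) := (faithfulSMul_iff_algebraMap_injective _ _).2 he
  letI : Module (MvPolynomial (Fin s) k) M := Module.compHom M (algebraMap (MvPolynomial (Fin s) k) (B ⧸ I))
  haveI : IsScalarTower (MvPolynomial (Fin s) k) (B ⧸ I) M := ⟨fun a c m => by
    rw [Algebra.smul_def, mul_smul]; rfl⟩
  haveI : Module.Finite (B ⧸ I) M := Module.Finite.of_restrictScalars_finite B (B ⧸ I) M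
  haveI : Module.Finite (MvPolynomial (Fin s) k) M := Module.Finite.trans (B ⧸ I) M
  let lift : ∀ a : MvPolynomial (Fin s) k, B := fun a => Function.surjInv Ideal.Quotient.mk_surjective (e a)
  have hlift : ∀ a, Ideal.Quotient.mk I (lift a) = e a := fun a => Function.surjInv_eq _ _
  have hsm : ∀ a (m : M), lift a • m = a • m := fun a m => by
    show lift a • m = e a • m
    rw [← hlift a]
    rfl
  have hcl : ∀ (q : PrimeSpectrum B) (h : I ≤ q.asIdeal), ∃ q' : PrimeSpectrum (B ⧸ I),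
      PrimeSpectrum.comap (Ideal.Quotient.mk I) q' = q ∧ coheight q' = coheight q := by
    intro q h
    obtain ⟨q', hq'⟩ : q ∈ Set.range (PrimeSpectrum.comap (Ideal.Quotient.mk I)) := by
      rw [range_comap_of_surjective _ _ Ideal.Quotient.mk_surjective, Ideal.mk_ker]
      exact h
    exact ⟨q', hq', by rw [← hq', ← Ideal.Quotient.algebraMap_eq, VarDim.coheight_comap]⟩
  have hassI : ∀ P : Ideal B, P ∈ associatedPrimes B M → I ≤ P := fun P hP => by
    obtain ⟨-, x, rfl⟩ := isAssociatedPrime_iff.1 hP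
    intro c hc
    rw [Submodule.mem_colon_singleton, Submodule.mem_bot]
    exact Module.mem_annihilator.1 hc x
  have hds : d = s := by
    obtain ⟨P₁, hP₁⟩ := Algebra.IsIntegral.comap_surjective (R := MvPolynomial (Fin s) k) (S := B ⧸ I)
      ⟨⊥, Ideal.isPrime_bot⟩
    obtain ⟨P₂, hP₂, hle⟩ := Ideal.exists_minimalPrimes_le (I := I)
      (J := (PrimeSpectrum.comap (Ideal.Quotient.mk I) P₁).asIdeal)
      (fun x hx => by
        show Ideal.Quotient.mk I x ∈ P₁.asIdeal
        rw [Ideal.Quotient.eq_zero_iff_mem.2 hx]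
        exact zero_mem _)
    have hass₂ := Module.associatedPrimes.minimalPrimes_annihilator_subset_associatedPrimes B M hP₂
    obtain ⟨P₃, hP₃, hco⟩ := hcl ⟨P₂, hP₂.1.1⟩ hP₂.1.2
    rw [hass _ hass₂] at hco
    have h31 : P₃.asIdeal ≤ P₁.asIdeal := fun x hx => by
      obtain ⟨x, rfl⟩ := Ideal.Quotient.mk_surjective x
      exact hle (show x ∈ (⟨P₂, hP₂.1.1⟩ : PrimeSpectrum B).asIdeal by rw [← hP₃]; exact hx)
    have h3 : (PrimeSpectrum.comap (algebraMap (MvPolynomial (Fin s) k) (B ⧸ I)) P₃).asIdeal = ⊥ :=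
      le_bot_iff.1 (((Ideal.comap_mono h31)).trans (le_of_eq (congrArg PrimeSpectrum.asIdeal hP₁)))
    have h1 := VarDim.coheight_eq_ringKrullDim_quotient
      (PrimeSpectrum.comap (algebraMap (MvPolynomial (Fin s) k) (B ⧸ I)) P₃)
    rw [VarDim.coheight_comap, hco, h3, ringKrullDim_eq_of_ringEquiv (RingEquiv.quotientBot _),
      MvPolynomial.ringKrullDim_of_isNoetherianRing, ringKrullDim_eq_zero_of_field, zero_add, Nat.card_fin] at h1
    exact_mod_cast h1
  subst hds
  have htf : ∀ a : MvPolynomial (Fin d) k, a ≠ 0 → IsSMulRegular M a := by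
    intro a ha
    rw [IsSMulRegular]
    intro x y hxy
    by_contra hne'
    have h0 : lift a • (x - y) = 0 := by
      rw [hsm, smul_sub, sub_eq_zero]
      exact hxy
    have hmem : lift a ∈ ⋃ P ∈ associatedPrimes B M, (P : Set B) := by
      rw [biUnion_associatedPrimes_eq_zero_divisors]
      exact ⟨x - y, sub_ne_zero.2 hne', h0⟩
    obtain ⟨P, hP, haP⟩ := Set.mem_iUnion₂.1 hmem
    obtain ⟨P₃, hP₃, hco⟩ := hcl ⟨P, hP.isPrime⟩ (hassI P hP)
    rw [hass _ hP] at hco
    let p := PrimeSpectrum.comap (algebraMap (MvPolynomial (Fin d) k) (B ⧸ I)) P₃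
    have hap : a ∈ p.asIdeal := by
      show e a ∈ P₃.asIdeal
      rw [← hlift a]
      exact (congrArg PrimeSpectrum.asIdeal hP₃).ge haP
    have hht := VarDim.height_add_coheight_le p
    rw [VarDim.coheight_comap, hco, MvPolynomial.ringKrullDim_of_isNoetherianRing, ringKrullDim_eq_zero_of_field,
      zero_add, Nat.card_fin] at hht
    have hh : height p = 0 := by
      have hh2 : height p + (d : ℕ∞) ≤ 0 + (d : ℕ∞) := by rw [zero_add]; exact_mod_cast hht
      exact le_antisymm ((ENat.add_le_add_iff_right (ENat.natCast_ne_top d)).1 hh2) bot_le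
    rw [height_eq_zero] at hh
    exact ha (by simpa using hh (b := ⟨⊥, Ideal.isPrime_bot⟩) bot_le hap)
  obtain ⟨ι, _, ψ, c, hc0, hψ, hc⟩ := exists_free_sub (R := MvPolynomial (Fin d) k) (M := M)
  refine ((associatedPrimes.finite B (QuotSMulTop (lift c) M)).preimage
    (f := fun P : PrimeSpectrum B => P.asIdeal) fun P _ Q _ h => PrimeSpectrum.ext h).subset fun q hq => ?_
  obtain ⟨hcoq, g, hg, v, hv⟩ := hq
  have hIq : I ≤ q.asIdeal := fun b hb => (hv b).2 ⟨1, fun h => q.isPrime.ne_top ((Ideal.eq_top_iff_one _).2 h),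
    0, by rw [smul_zero, one_mul]; exact Module.mem_annihilator.1 hb v⟩
  obtain ⟨q', hq', hco⟩ := hcl q hIq
  have hmem : ∀ b : B, Ideal.Quotient.mk I b ∈ q'.asIdeal ↔ b ∈ q.asIdeal := fun b => by rw [← hq']; rfl
  have hcq : algebraMap (MvPolynomial (Fin d) k) (B ⧸ I) c ∈ q'.asIdeal := by
    refine mem_or_of_normalised ψ hψ hc htf q' (by rw [hco]; exact hcoq) (g := Ideal.Quotient.mk I g)
      (fun x hx => ?_) (v := v) fun b => ?_
    · obtain ⟨t, ht, htx⟩ := hg x hx
      exact ⟨Ideal.Quotient.mk I t, fun h => ht ((hmem t).1 h), htx⟩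
    obtain ⟨b, rfl⟩ := Ideal.Quotient.mk_surjective b
    rw [hmem, hv]
    constructor
    · rintro ⟨t, ht, w, hw⟩
      exact ⟨Ideal.Quotient.mk I t, fun h => ht ((hmem t).1 h), w, hw⟩
    · rintro ⟨t, ht, w, hw⟩
      obtain ⟨t, rfl⟩ := Ideal.Quotient.mk_surjective t
      exact ⟨t, fun h => ht ((hmem t).2 h), w, hw⟩
  have hlc : lift c ∈ q.asIdeal := (hmem _).1 (by rw [hlift]; exact hcq)
  obtain ⟨t, ht, u, hu⟩ := (hv _).1 hlc
  exact mem_associatedPrimes_smul (fun x y h => htf c hc0 (by simpa [hsm] using h)) hg hv ht hu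

end Groth.Agent.GrothLem
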