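import Groth.Agent.GrothLem.OnX
import Groth.Agent.RelCube.PnFamily
import Groth.Agent.QuotRep.QuotOver
import Groth.Agent.QuotRep.BdAux
import Groth.Agent.HilbSnap.UniformVan
import Groth.Agent.PBC.Betti

/-!
# Uniform bounds on the fibres of a flat projective family
-/

set_option autoImplicit false
set_option linter.style.haveILetI false
set_option linter.unusedSectionVars false
set_option backward.isDefEq.respectTransparency false
set_option backward.isDefEq.respectTransparency.types false
set_option maxHeartbeats 1000000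

universe u

open CategoryTheory CategoryTheory.Limits AlgebraicGeometry TopologicalSpace Opposite

attribute [-instance] CategoryTheory.catToReflQuiver

noncomputable section

namespace Groth.Agent.GrothLem

open Groth.Agent Groth.Agent.RegEpi Groth.Agent.HilbBound Groth.Agent.PnCoh.Finite
open scoped Groth.Agent.H23.PicMul

attribute [local instance 10000] HilbBound.projOver

variable {K : Type u} [Field K] {S : Scheme.{u}} {n : ℕ} {X : Scheme.{u}}
  (i : X ⟶ CohB1.ProjSpaceOver n S) [IsClosedImmersion i]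

set_option quotPrecheck false in
local notation "π₀" => i ≫ CohB1.ProjSpaceOver.toBase n S
set_option quotPrecheck false in
local notation "O₁" => (Scheme.Modules.pullback i).obj (Twist.twistOver n S 1)

/-- A fibre is a closed subscheme of projective space. -/
theorem exists_fibre_embedding (t : Spec (CommRingCat.of K) ⟶ S) :
    ∃ r : pullback π₀ t ⟶ CohB1.ProjSpace n K, IsClosedImmersion r ∧
      r ≫ CohB1.ProjSpace.toSpec n K = pullback.snd π₀ t ∧
      ∀ d : ℤ, Nonempty ((Scheme.Modules.pullback r).obj (Twist.twistProjSpace n K d) ≅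
        (Scheme.Modules.pullback (pullback.fst π₀ t)).obj
          ((Scheme.Modules.pullback i).obj (Twist.twistOver n S d))) := by
  obtain ⟨e, he, htw⟩ := RelCube.exists_fibre_iso n S t
  let b := CohB1.ProjSpaceOver.toBase n S
  let m : pullback π₀ t ⟶ pullback b t :=
    pullback.lift (pullback.fst π₀ t ≫ i) (pullback.snd π₀ t) (by rw [Category.assoc]; exact pullback.condition)
  have hsq : IsPullback (pullback.fst π₀ t) m i (pullback.fst b t) := by
    refine IsPullback.of_bot ?_ (pullback.lift_fst _ _ _).symm (IsPullback.of_hasPullback b t)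
    rw [pullback.lift_snd]
    exact IsPullback.of_hasPullback π₀ t
  haveI : IsClosedImmersion m := MorphismProperty.of_isPullback hsq ‹_›
  refine ⟨m ≫ e.hom, inferInstance, by rw [Category.assoc, he, pullback.lift_snd], fun d => ?_⟩
  obtain ⟨τ⟩ := htw d
  refine ⟨?_⟩
  exact ((Scheme.Modules.pullbackComp m e.hom).app _).symm ≪≫ (Scheme.Modules.pullback m).mapIso τ.symm ≪≫
    (Scheme.Modules.pullbackComp m (pullback.fst b t)).app _ ≪≫
    (Scheme.Modules.pullbackCongr (pullback.lift_fst _ _ _)).app _ ≪≫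
    ((Scheme.Modules.pullbackComp (pullback.fst π₀ t) i).app _).symm

variable [IsNoetherian S] {F : X.Modules} (hF : Coh.IsCoh F)

include hF in
/-- The direct images of the fibres in projective space are uniformly regular. -/
theorem exists_uniform_reg :
    ∃ ρ : ℕ, ∀ (K : Type u) [Field K] (t : Spec (CommRingCat.of K) ⟶ S)
      (r : pullback π₀ t ⟶ CohB1.ProjSpace n K) [IsClosedImmersion r],
      r ≫ CohB1.ProjSpace.toSpec n K = pullback.snd π₀ t →
      Nonempty ((Scheme.Modules.pullback r).obj (Twist.twistProjSpace n K 1) ≅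
        (Scheme.Modules.pullback (pullback.fst π₀ t)).obj O₁) →
      Curv2.IsMRegular K n
        ((Scheme.Modules.pushforward r).obj ((Scheme.Modules.pullback (pullback.fst π₀ t)).obj F)) (ρ : ℤ) := by
  haveI : IsProper π₀ := QuotRep.isProper_comp i
  haveI : LocallyOfFinitePresentation π₀ := QuotRep.lfp_comp i
  haveI : IsLocallyNoetherian X := LocallyOfFiniteType.isLocallyNoetherian π₀
  obtain ⟨N, hN⟩ := HilbSnap.exists_uniform_fiberH π₀ (QuotRep.isInvertible_O1 i) (QuotRep.isRelAmple_O1 i)
    (QCoh.isCoh_iff_isFP.1 hF)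
  refine ⟨N + n, fun K _ t r _ hr ⟨eL⟩ q hq hqn => ?_⟩
  let P := pullback π₀ t
  letI : P.Over (Spec (CommRingCat.of K)) := ⟨pullback.snd π₀ t⟩
  haveI : IsProper (P ↘ Spec (CommRingCat.of K)) := inferInstanceAs (IsProper (pullback.snd π₀ t))
  haveI : IsLocallyNoetherian P := LocallyOfFiniteType.isLocallyNoetherian (P ↘ Spec (CommRingCat.of K))
  let Ft := (Scheme.Modules.pullback (pullback.fst π₀ t)).obj F
  let Lt := (Scheme.Modules.pullback (pullback.fst π₀ t)).obj O₁
  have hFt : Coh.IsCoh Ft := ZClosLib.isCoh_pullback _ hF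
  have hLt : PicF.IsInvertible Lt := PicClLib.isInvertible_pullback _ (QuotRep.isInvertible_O1 i)
  obtain ⟨l, hl⟩ : ∃ l : ℕ, (l : ℤ) = ((N + n : ℕ) : ℤ) - q := ⟨N + n - q, by omega⟩
  refine (FppfPic.MReg.hh_iff K n r Ft hFt _ q).1 ?_
  rw [← hl]
  obtain ⟨e⟩ : Nonempty (Pic13.twistOn K r Ft (l : ℤ) ≅ CohB1.tensorMod Ft (CohB1.tensorPow Lt l)) :=
    H23.PicMul.cl_eq_iff.1 (by
      rw [TauNum.cl_twistOn_natCast, H23.PicMul.cl_tensor, H23.PicMul.cl_tensorPow,
        H23.PicMul.cl_eq_iff.2 ⟨eL⟩])
  refine QCoh.subsingleton_HH_of_iso e.symm q ?_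
  have hG : Coh.IsCoh (CohB1.tensorMod Ft (CohB1.tensorPow Lt l)) :=
    AmpleVan.isCoh_tensor hFt (AmpleVan.isCoh_invertible (InvX.isInvertible_tensorPow hLt l))
  haveI := CurveCohLib.finite_HH (k := K) hG q
  obtain ⟨p, rfl⟩ : ∃ p, q = p + 1 := ⟨q - 1, by omega⟩
  have h1 := QuotRep.fiberRank_field (pullback.snd π₀ t) hG.1 (p + 1) default
  rw [HilbSnap.fiberRank_twist_bc (IsPullback.of_hasPullback π₀ t) hF.1 (QuotRep.isInvertible_O1 i) l (p + 1)] at h1
  have h2 : CohIII.fiberRank π₀ (CohB1.tensorMod F (CohB1.tensorPow O₁ l)) (p + 1) (t default) = 0 := by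
    haveI := hN l (by omega) (t default) p
    exact Module.finrank_zero_of_subsingleton
  exact Module.finrank_zero_iff.1 (h1.symm.trans h2)

include hF in
/-- Only finitely many Hilbert polynomials occur on the fibres of a flat family. -/
theorem exists_finite_fibre_polys (hflat : FlatMod.IsFlatOver π₀ F) (d : ℕ) :
    ∃ Ps : Set (Polynomial ℚ), Ps.Finite ∧ ∀ (K : Type u) [Field K] (t : Spec (CommRingCat.of K) ⟶ S)
      (P : Polynomial ℚ), P.natDegree ≤ d →
      (letI : (pullback π₀ t).Over (Spec (CommRingCat.of K)) := ⟨pullback.snd π₀ t⟩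
       ShStab.IsHilbPoly K (pullback π₀ t) ((Scheme.Modules.pullback (pullback.fst π₀ t)).obj O₁)
        ((Scheme.Modules.pullback (pullback.fst π₀ t)).obj F) P) → P ∈ Ps := by
  haveI : IsProper π₀ := QuotRep.isProper_comp i
  haveI : LocallyOfFinitePresentation π₀ := QuotRep.lfp_comp i
  haveI : IsLocallyNoetherian X := LocallyOfFiniteType.isLocallyNoetherian π₀
  have hlc : ∀ j : ℕ, (Set.range fun s : S =>
      (PerfAux.eulerChar π₀ (CohB1.tensorMod F (CohB1.tensorPow O₁ j)) s).natAbs).Finite := fun j => by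
    have hinv := InvX.isInvertible_tensorPow (QuotRep.isInvertible_O1 i) j
    exact ((PBC.isLocallyConstant_eulerChar π₀ _ (HilbSnap.isFP_tensor_invertible (QCoh.isCoh_iff_isFP.1 hF) hinv)
      (TwistFlat.isFlatOver_tensor π₀ hinv hflat)).comp Int.natAbs).range_finite
  choose C hC using fun j => (hlc j).bddAbove
  refine ⟨_, finite_polys d 0 C, fun K _ t P hdeg hP => ⟨hdeg, fun j _ => ?_⟩⟩
  letI : (pullback π₀ t).Over (Spec (CommRingCat.of K)) := ⟨pullback.snd π₀ t⟩
  have hLt : PicF.IsInvertible ((Scheme.Modules.pullback (pullback.fst π₀ t)).obj O₁) :=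
    PicClLib.isInvertible_pullback _ (QuotRep.isInvertible_O1 i)
  have h1 : PerfAux.eulerChar (pullback.snd π₀ t) (CohB1.tensorMod ((Scheme.Modules.pullback (pullback.fst π₀ t)).obj F)
      (CohB1.tensorPow ((Scheme.Modules.pullback (pullback.fst π₀ t)).obj O₁) j)) default =
      PerfAux.eulerChar π₀ (CohB1.tensorMod F (CohB1.tensorPow O₁ j)) (t default) :=
    finsum_congr fun q => by
      rw [PBC.betti_eq_fiberRank, PBC.betti_eq_fiberRank,
        HilbSnap.fiberRank_twist_bc (IsPullback.of_hasPullback π₀ t) hF.1 (QuotRep.isInvertible_O1 i)]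
  refine ⟨_, ?_, hC j ⟨t default, rfl⟩⟩
  rw [← h1, QuotRep.eulerChar_field (pullback.snd π₀ t)
    (CohBasic.isQCoh_tensorMod (QCoh.isQCoh_pullback _ hF.1)
      (ProjUPX.isQCoh_of_isInvertible (InvX.isInvertible_tensorPow hLt j)))]
  rw [zero_add, Int.cast_natCast]
  exact (hP j).symm

end Groth.Agent.GrothLem

end
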