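import Groth.Agent.HilbBound.Bound
import Groth.Agent.AmpleNeg.Basic
import Groth.Agent.AmpleVan.Mul
import Groth.Agent.AmpleX.FiniteSet
import Groth.Agent.PnCoh.TwistH0
import Groth.Agent.VarDim.Scheme
import Mathlib.Analysis.Complex.Polynomial.Basic

/-!
# Strict growth of sections

Over an algebraically closed field, a sheaf without closed associated points has strictly more sections
in degree `t` than in degree `t - 1`, unless it has none.
-/

set_option autoImplicit false
set_option linter.style.haveILetI false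
set_option linter.unusedSectionVars false
set_option backward.isDefEq.respectTransparency false
set_option backward.isDefEq.respectTransparency.types false
set_option maxHeartbeats 1000000

universe u

open CategoryTheory CategoryTheory.Limits AlgebraicGeometry TopologicalSpace Opposite

noncomputable section

namespace Groth.Agent.GrothLem

open Groth.Agent Groth.Agent.RegEpi Groth.Agent.HilbBound Groth.Agent.PnCoh.Finite

variable {k : Type u} [Field k] {n : ℕ}

local notation "PP" => Proj (CohB1.polyGrading n k)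
local notation "Lin" => (CohB1.polyGrading n k) 1

attribute [local instance 10000] HilbBound.projOver

/-- The section of `O(1)` of a linear form. -/
def lsec (a : Lin) : Γ(Twist.twist (CohB1.polyGrading n k) 1, ⊤) :=
  ProjUPX.sec (CohB1.polyGrading n k) a.2

theorem lsec_add (a b : Lin) : lsec (a + b) = lsec a + lsec b :=
  PnCoh.globalOf_add (ι := Fin (n + 1)) (R := k) (d := 1) a b

theorem lsec_smul (c : k) (a : Lin) :
    lsec (c • a) = (show Γ(PP, ⊤) from Coh.toGlobal (PP ↘ Spec (CommRingCat.of k)) c) • lsec a := by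
  refine (PnCoh.globalOf_smul (ι := Fin (n + 1)) (R := k) (d := 1) c a).trans ?_
  refine congrArg (fun r : Γ(PP, ⊤) => r • lsec a) ?_
  exact ConcreteCategory.congr_hom ((Proj (CohB1.polyGrading n k)).presheaf.map_id (op ⊤)) _

/-- The coordinate of a linear form at a point off the hyperplane `l = 0`. -/
theorem exists_coord_at (l a : Lin) {y : PP} (hy : y ∈ Proj.basicOpen (CohB1.polyGrading n k) l.1) :
    ∃ r : (Proj (CohB1.polyGrading n k)).presheaf.stalk y,
      (Twist.twist (CohB1.polyGrading n k) 1).presheaf.germ ⊤ y trivial (lsec a) =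
        r • (Twist.twist (CohB1.polyGrading n k) 1).presheaf.germ ⊤ y trivial (lsec l) := by
  obtain ⟨g, hg⟩ := (ProjUPX.isFrame_sec (CohB1.polyGrading n k) l.2).exists_coord le_rfl
    (AModX.res (Twist.twist (CohB1.polyGrading n k) 1)
      (le_top : Proj.basicOpen (CohB1.polyGrading n k) l.1 ≤ ⊤) (lsec a))
  rw [AModX.res_self] at hg
  refine ⟨(Proj (CohB1.polyGrading n k)).presheaf.germ _ y hy g, ?_⟩
  have h := congrArg ((Twist.twist (CohB1.polyGrading n k) 1).presheaf.germ _ y hy) hg
  rw [QCoh.germ_smul', InvX.germ_res', InvX.germ_res'] at h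
  exact h

/-- A non-unit coordinate gives a linear form vanishing at the point. -/
theorem mem_prime_of_coord (l b : Lin) {y : PP} (hy : y ∈ Proj.basicOpen (CohB1.polyGrading n k) l.1)
    {r : (Proj (CohB1.polyGrading n k)).presheaf.stalk y}
    (hr : (Twist.twist (CohB1.polyGrading n k) 1).presheaf.germ ⊤ y trivial (lsec b) =
        r • (Twist.twist (CohB1.polyGrading n k) 1).presheaf.germ ⊤ y trivial (lsec l)) (hu : ¬ IsUnit r) :
    b.1 ∈ (y : ProjectiveSpectrum (CohB1.polyGrading n k)).asHomogeneousIdeal.toIdeal := by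
  by_contra hb
  have hyb : y ∈ Proj.basicOpen (CohB1.polyGrading n k) b.1 := hb
  have hb' := (ProjUPX.isFrame_sec (CohB1.polyGrading n k) b.2).germ_bijective hyb
  have hl' := (ProjUPX.isFrame_sec (CohB1.polyGrading n k) l.2).germ_bijective hy
  obtain ⟨c, hc⟩ := hb'.2 ((Twist.twist (CohB1.polyGrading n k) 1).presheaf.germ ⊤ y trivial (lsec l))
  dsimp only at hc
  rw [InvX.germ_res'] at hc
  refine hu (IsUnit.of_mul_eq_one c (hl'.1 ?_))
  dsimp only
  rw [InvX.germ_res', one_smul, mul_comm, mul_smul, show ProjUPX.sec (CohB1.polyGrading n k) l.2 = lsec l from rfl,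
    ← hr]
  exact hc

/-- All linear forms proportional to a fixed one modulo the prime: the point is closed. -/
theorem isClosed_of_forall_mem (l : Lin) {y : PP}
    (hy : y ∈ Proj.basicOpen (CohB1.polyGrading n k) l.1)
    (h : ∀ a : Lin, ∃ c : k, (a - c • l : Lin).1 ∈
      (y : ProjectiveSpectrum (CohB1.polyGrading n k)).asHomogeneousIdeal.toIdeal) :
    IsClosed ({y} : Set PP) := by
  classical
  choose c hc using h
  let X' : Fin (n + 1) → Lin := fun i => ⟨MvPolynomial.X i, (MvPolynomial.mem_homogeneousSubmodule 1 _).2 (MvPolynomial.isHomogeneous_X k i)⟩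
  let y' : ProjectiveSpectrum (CohB1.polyGrading n k) := y
  let ψ : MvPolynomial (Fin (n + 1)) k →ₐ[k] MvPolynomial (Fin (n + 1)) k :=
    MvPolynomial.aeval fun i => c (X' i) • l.1
  have hsub : ∀ f, f - ψ f ∈ y'.asHomogeneousIdeal.toIdeal := by
    intro f
    have h2 : (Ideal.Quotient.mkₐ k y'.asHomogeneousIdeal.toIdeal).comp ψ =
        Ideal.Quotient.mkₐ k y'.asHomogeneousIdeal.toIdeal := by
      refine MvPolynomial.algHom_ext fun i => ?_
      rw [AlgHom.comp_apply, MvPolynomial.aeval_X]
      exact (Ideal.Quotient.mk_eq_mk_iff_sub_mem _ _).2 (by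
        rw [← neg_sub]
        exact neg_mem (hc (X' i)))
    exact (Ideal.Quotient.mk_eq_mk_iff_sub_mem _ _).1 (AlgHom.congr_fun h2 f).symm
  have hψ : ∀ (d : ℕ) (f : MvPolynomial (Fin (n + 1)) k), f.IsHomogeneous d → ∃ e : k, ψ f = e • l.1 ^ d := by
    intro d f hf
    refine ⟨MvPolynomial.eval (fun i => c (X' i)) f, ?_⟩
    rw [MvPolynomial.aeval_def, MvPolynomial.eval₂_eq, MvPolynomial.eval_eq, Finset.sum_smul]
    refine Finset.sum_congr rfl fun m hm => ?_
    have hd : ∑ i ∈ m.support, m i = d := by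
      have h1 := hf (MvPolynomial.mem_support_iff.1 hm)
      rwa [Finsupp.weight_apply, Finsupp.sum, Finset.sum_congr rfl (fun i _ => by rw [Pi.one_apply, smul_eq_mul, mul_one])] at h1
    simp only [smul_pow]
    rw [Finset.prod_smul, Finset.prod_pow_eq_pow_sum, hd, ← Algebra.smul_def, smul_smul]
  refine closure_subset_iff_isClosed.1 fun z hz => ?_
  have hyz : y ⤳ z := specializes_iff_mem_closure.2 hz
  have hle : y' ≤ (z : ProjectiveSpectrum (CohB1.polyGrading n k)) :=
    (ProjectiveSpectrum.le_iff_mem_closure _ _ _).2 hz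
  let z' : ProjectiveSpectrum (CohB1.polyGrading n k) := z
  have hlz : l.1 ∉ z'.asHomogeneousIdeal.toIdeal := by
    intro hl
    refine z'.not_irrelevant_le fun f hf => ?_
    refine (Ideal.span_le.2 ?_) (SegreX.irrelevant_le_span n k hf)
    rintro _ ⟨i, rfl⟩
    have h1 : MvPolynomial.X i - c (X' i) • l.1 ∈ z'.asHomogeneousIdeal.toIdeal := hle (hc (X' i))
    have h2 : c (X' i) • l.1 ∈ z'.asHomogeneousIdeal.toIdeal := Submodule.smul_of_tower_mem _ _ hl
    simpa using add_mem h1 h2
  suffices h' : z' ≤ y' from le_antisymm (α := ProjectiveSpectrum (CohB1.polyGrading n k)) (a := z') (b := y') h' hle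
  show z'.asHomogeneousIdeal.toIdeal ≤ y'.asHomogeneousIdeal.toIdeal
  intro f hf
  rw [← DirectSum.sum_support_decompose (CohB1.polyGrading n k) f]
  refine sum_mem fun d _ => ?_
  have hfd : (DirectSum.decompose (CohB1.polyGrading n k) f d : MvPolynomial (Fin (n + 1)) k) ∈
      z'.asHomogeneousIdeal.toIdeal := z'.asHomogeneousIdeal.isHomogeneous d hf
  set g := (DirectSum.decompose (CohB1.polyGrading n k) f d : MvPolynomial (Fin (n + 1)) k) with hg
  obtain ⟨e, he⟩ := hψ d g (DirectSum.decompose (CohB1.polyGrading n k) f d).2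
  have h3 : e • l.1 ^ d ∈ z'.asHomogeneousIdeal.toIdeal := by
    rw [← he]
    have := sub_mem hfd (hle (hsub g))
    rwa [sub_sub_cancel] at this
  rcases eq_or_ne e 0 with rfl | he0
  · have := hsub g
    rwa [he, zero_smul, sub_zero] at this
  · exfalso
    refine hlz (z'.isPrime.mem_of_pow_mem d ?_)
    have := Submodule.smul_of_tower_mem z'.asHomogeneousIdeal.toIdeal e⁻¹ h3
    rwa [inv_smul_smul₀ he0] at this

section General

variable {X : Scheme.{u}} [X.Over (Spec (CommRingCat.of k))]

/-- `H⁰` as global sections. -/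
def eGl (M : X.Modules) : Coh.HH X M 0 ≃+ Γ(M, ⊤) :=
  Sheaf.H.equiv₀ (Coh.toAb M) Limits.isTerminalTop

theorem eGl_smul (M : X.Modules) (c : k) (t : Coh.HH X M 0) :
    eGl M (c • t) = (show Γ(X, ⊤) from Coh.toGlobal (X ↘ Spec (CommRingCat.of k)) c) • eGl M t :=
  (CurveCohLib.h0Equiv_smul M c t).trans
    (congrArg (fun r : Γ(X, ⊤) => r • eGl M t) (ConcreteCategory.congr_hom (X.presheaf.map_id (op ⊤)) _))

/-- Multiplication of sections by a section of `N`. -/
def mulSec (M N : X.Modules) (b : Γ(N, ⊤)) :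
    Coh.HH X M 0 →ₗ[k] Coh.HH X (CohB1.tensorMod M N) 0 where
  toFun v := (eGl (CohB1.tensorMod M N)).symm (InvX.tmul (eGl M v) b)
  map_add' v w := by rw [map_add, AmpleVan.tmul_add_left, map_add]
  map_smul' c v := by
    refine (eGl (CohB1.tensorMod M N)).injective ?_
    rw [AddEquiv.apply_symm_apply, RingHom.id_apply, eGl_smul, eGl_smul, AddEquiv.apply_symm_apply,
      InvX.tmul_smul_left]

/-- Germs of products of sections, in a frame. -/
theorem germ_of_mulSec {M N : X.Modules} {D : X.Opens} {y : X} (hy : y ∈ D) (a l : Γ(N, ⊤))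
    (he : InvX.IsFrame (AModX.res N (le_top : D ≤ ⊤) l)) {r : X.presheaf.stalk y}
    (hr : N.presheaf.germ ⊤ y trivial a = r • N.presheaf.germ ⊤ y trivial l) {v w : Coh.HH X M 0}
    (hvw : mulSec (k := k) M N a v = mulSec (k := k) M N l w) :
    r • M.presheaf.germ ⊤ y trivial (eGl M v) = M.presheaf.germ ⊤ y trivial (eGl M w) := by
  obtain ⟨g, hg⟩ := he.exists_coord le_rfl (AModX.res _ (le_top : D ≤ ⊤) a)
  rw [AModX.res_self] at hg
  have hgr : X.presheaf.germ D y hy g = r := by
    refine (he.germ_bijective hy).1 ?_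
    dsimp only
    have h := congrArg (N.presheaf.germ D y hy) hg
    rw [QCoh.germ_smul', InvX.germ_res', InvX.germ_res'] at h
    rw [InvX.germ_res', ← h, hr]
  have h := congrArg (fun t => AModX.res (CohB1.tensorMod M N) (le_top : D ≤ ⊤) (eGl _ t)) hvw
  simp only [mulSec, LinearMap.coe_mk, AddHom.coe_mk, AddEquiv.apply_symm_apply] at h
  rw [InvX.res_tmul, InvX.res_tmul, hg, InvX.tmul_smul_right, ← InvX.tmul_smul_left] at h
  have h2 := AmpleNeg.germ_eq_zero_of_tmul (M := M) (N := N) hy
    (g • AModX.res M (le_top : D ≤ ⊤) (eGl M v) - AModX.res M (le_top : D ≤ ⊤) (eGl M w)) he (by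
      rw [show InvX.tmul (g • AModX.res M (le_top : D ≤ ⊤) (eGl M v) - AModX.res M (le_top : D ≤ ⊤) (eGl M w))
          (AModX.res N (le_top : D ≤ ⊤) l) = 0 from add_right_cancel (b := InvX.tmul
            (AModX.res M (le_top : D ≤ ⊤) (eGl M w)) (AModX.res N (le_top : D ≤ ⊤) l)) (by
          rw [← AmpleVan.tmul_add_left, sub_add_cancel, zero_add]
          exact h), map_zero])
  rw [map_sub, sub_eq_zero, QCoh.germ_smul', InvX.germ_res', InvX.germ_res', hgr] at h2
  exact h2

end General

/-- Multiplication of sections by a linear form. -/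
def mulLin (M : (Proj (CohB1.polyGrading n k)).Modules) (a : Lin) :
    Coh.HH PP M 0 →ₗ[k] Coh.HH PP ((twF 1).obj M) 0 :=
  mulSec M (Twist.twist (CohB1.polyGrading n k) 1) (lsec a)

/-- Without closed associated points the dimension of the sections grows strictly. -/
theorem finrank_lt [IsAlgClosed k] {M : (Proj (CohB1.polyGrading n k)).Modules} (hM : Coh.IsCoh M)
    (hass : ∀ x, Curv2.IsWeakAssPoint M x → ¬ IsClosed ({x} : Set PP))
    (hne : Nontrivial (Coh.HH PP M 0)) :
    dimH (k := k) M 0 < dimH (k := k) ((twF 1).obj M) 0 := by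
  classical
  haveI : IsNoetherian PP := Proj16.isNoetherian_proj _
  haveI : Module.Finite k (Coh.HH PP M 0) := projSpace_finite_HH n k M hM 0
  haveI : Module.Finite k (Coh.HH PP ((twF 1).obj M) 0) := projSpace_finite_HH n k _ (isCoh_tw hM 1) 0
  obtain ⟨l₀, hl₀, hl₀P⟩ := S10915.exists_avoiding k n
    ((fun x : PP => (x : ProjectiveSpectrum (CohB1.polyGrading n k)).asHomogeneousIdeal.toIdeal) ''
      {x | Curv2.IsWeakAssPoint M x}) ((finite_weakAss hM).image _) (by
    rintro _ ⟨x, -, rfl⟩
    refine ⟨(x : ProjectiveSpectrum (CohB1.polyGrading n k)).isPrime,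
      (x : ProjectiveSpectrum (CohB1.polyGrading n k)).asHomogeneousIdeal.isHomogeneous, fun h => ?_⟩
    refine (x : ProjectiveSpectrum (CohB1.polyGrading n k)).not_irrelevant_le fun a ha => ?_
    refine h.ge ?_
    refine (Ideal.span_le.2 ?_) (SegreX.irrelevant_le_span n k ha)
    rintro _ ⟨i, rfl⟩
    exact MvPolynomial.constantCoeff_X k i)
  let l : Lin := ⟨l₀, (MvPolynomial.mem_homogeneousSubmodule 1 l₀).2 hl₀⟩
  have hl : ∀ x, Curv2.IsWeakAssPoint M x → x ∈ Proj.basicOpen (CohB1.polyGrading n k) l.1 :=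
    fun x hx => hl₀P _ ⟨x, hx, rfl⟩
  -- germs of `v ⊗ a`
  have hgerm : ∀ (a : Lin) (v w : Coh.HH PP M 0) {y : PP}
      (hy : y ∈ Proj.basicOpen (CohB1.polyGrading n k) l.1)
      (r : (Proj (CohB1.polyGrading n k)).presheaf.stalk y),
      (Twist.twist (CohB1.polyGrading n k) 1).presheaf.germ ⊤ y trivial (lsec a) =
        r • (Twist.twist (CohB1.polyGrading n k) 1).presheaf.germ ⊤ y trivial (lsec l) →
      mulLin M a v = mulLin M l w →
      r • M.presheaf.germ ⊤ y trivial (eGl M v) = M.presheaf.germ ⊤ y trivial (eGl M w) := by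
    intro a v w y hy r hr hvw
    exact germ_of_mulSec (N := Twist.twist (CohB1.polyGrading n k) 1) hy (lsec a) (lsec l)
      (ProjUPX.isFrame_sec (CohB1.polyGrading n k) l.2) hr hvw
  have hinj : Function.Injective (mulLin M l) := fun v w hvw => (eGl M).injective (by
    rw [← sub_eq_zero, ← map_sub]
    refine AssPtX.eq_zero_of_germ hM.1 _ fun y _ hya => ?_
    have := hgerm l v w (hl y hya) 1 (one_smul _ _).symm hvw
    rw [one_smul] at this
    rw [map_sub, map_sub, sub_eq_zero]
    exact this)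
  by_contra hle
  have hsurj : Function.Surjective (mulLin M l) :=
    (LinearMap.injective_iff_surjective_of_finrank_eq_finrank
      (le_antisymm (LinearMap.finrank_le_finrank_of_injective hinj) (not_lt.1 hle))).1 hinj
  let E := LinearEquiv.ofBijective (mulLin M l) ⟨hinj, hsurj⟩
  obtain ⟨v₀, hv₀⟩ := exists_ne (0 : Coh.HH PP M 0)
  obtain ⟨y, hya, hyv⟩ : ∃ y, Curv2.IsWeakAssPoint M y ∧ M.presheaf.germ ⊤ y trivial (eGl M v₀) ≠ 0 := by
    by_contra! hc
    exact hv₀ ((eGl M).injective ((AssPtX.eq_zero_of_germ hM.1 _ fun y _ hy => hc y hy).trans (map_zero _).symm))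
  have hy := hl y hya
  refine hass y hya (isClosed_of_forall_mem l hy fun a => ?_)
  obtain ⟨r, hr⟩ := exists_coord_at l a hy
  let C : Module.End k (Coh.HH PP M 0) := E.symm.toLinearMap ∘ₗ mulLin M a
  have hC : ∀ v, M.presheaf.germ ⊤ y trivial (eGl M (C v)) = r • M.presheaf.germ ⊤ y trivial (eGl M v) :=
    fun v => (hgerm a v (C v) hy r hr (E.apply_symm_apply (mulLin M a v)).symm).symm
  let sm := Curv2.stalkMap k PP y
  have hsm : ∀ (c : k) (v : Coh.HH PP M 0), M.presheaf.germ ⊤ y trivial (eGl M (c • v)) =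
      sm c • M.presheaf.germ ⊤ y trivial (eGl M v) := fun c v => CurveCohLib.germ_h0Equiv_smul M c v y
  let p := minpoly k C
  have hev : ∀ (q : Polynomial k) (v : Coh.HH PP M 0), M.presheaf.germ ⊤ y trivial (eGl M (Polynomial.aeval C q v)) =
      Polynomial.eval₂ sm r q • M.presheaf.germ ⊤ y trivial (eGl M v) := by
    intro q
    induction q using Polynomial.induction_on with
    | C c => intro v; rw [Polynomial.aeval_C, Polynomial.eval₂_C, Module.algebraMap_end_apply, hsm]
    | add q q' hq hq' => intro v; rw [map_add, LinearMap.add_apply, map_add, map_add, hq, hq', Polynomial.eval₂_add, add_smul]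
    | monomial m c ih =>
      intro v
      rw [pow_succ, ← mul_assoc, map_mul, Polynomial.aeval_X, Module.End.mul_apply, ih, hC, Polynomial.eval₂_mul_X,
        mul_smul]
  have hp : ¬ IsUnit (Polynomial.eval₂ sm r p) := fun hu => by
    have h := hev p v₀
    rw [minpoly.aeval, LinearMap.zero_apply, map_zero, map_zero] at h
    exact hyv (hu.smul_eq_zero.1 h.symm)
  have hmonic : p.Monic := minpoly.monic (Algebra.IsIntegral.isIntegral C)
  rw [Polynomial.Splits.eq_prod_roots_of_monic (IsAlgClosed.splits p) hmonic, Polynomial.eval₂_multiset_prod,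
    Multiset.map_map] at hp
  obtain ⟨c, -, hc⟩ : ∃ c ∈ p.roots, ¬ IsUnit (Polynomial.eval₂ sm r (Polynomial.X - Polynomial.C c)) := by
    by_contra! h
    refine hp (Submonoid.multiset_prod_mem (IsUnit.submonoid _) _ fun x hx => ?_)
    obtain ⟨c, hc, rfl⟩ := Multiset.mem_map.1 hx
    exact h c hc
  rw [Polynomial.eval₂_sub, Polynomial.eval₂_X, Polynomial.eval₂_C] at hc
  refine ⟨c, mem_prime_of_coord l (a - c • l) hy (r := r - sm c) ?_ hc⟩
  rw [show a - c • l = a + (-c) • l by module, lsec_add, lsec_smul, map_add, hr, sub_smul, sub_eq_add_neg, add_right_inj]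
  refine (QCoh.germ_smul' _ (U := ⊤) (hx := (trivial : y ∈ (⊤ : (Proj (CohB1.polyGrading n k)).Opens))) _ _).trans ?_
  show sm (-c) • _ = _
  rw [map_neg, neg_smul]

/-- The same for twists. -/
theorem h0_lt [IsAlgClosed k] {M : (Proj (CohB1.polyGrading n k)).Modules} (hM : Coh.IsCoh M)
    (hass : ∀ x, Curv2.IsWeakAssPoint M x → ¬ IsClosed ({x} : Set PP)) (t : ℤ) (h : h0 M t ≠ 0) :
    h0 M t < h0 M (t + 1) := by
  haveI : Module.Finite k (Coh.HH PP ((twF t).obj M) 0) := projSpace_finite_HH n k _ (isCoh_tw hM t) 0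
  have h' := finrank_lt (isCoh_tw hM t) (fun x hx => hass x (AmpleNeg.isWeakAssPoint_of_tensor
    (PnCoh.Finite.isInvertible_twist (ProjRegular.coords k n) ProjRegular.coords_mem ProjRegular.coords_cover t) hx))
    (Module.nontrivial_of_finrank_pos (R := k) (Nat.pos_of_ne_zero h))
  obtain ⟨e⟩ := twF_twF_iso (k := k) (n := n) M t 1 (t + 1) rfl
  rwa [dimH_congr (k := k) e] at h'

end Groth.Agent.GrothLem

end
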