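import Groth.Agent.GrothLem.PureRestrict
import Groth.Agent.GrothLem.Vanish
import Groth.Agent.CurveCohLib.Rank
import Mathlib.LinearAlgebra.Lagrange

/-!
# Grothendieck's lemma

Over an algebraically closed field, the pure `d`-dimensional quotients of regular sheaves with bounded
sections and bounded top two coefficients have finitely many Hilbert polynomials.
-/

set_option autoImplicit false
set_option linter.style.haveILetI false
set_option linter.unusedSectionVars false
set_option backward.isDefEq.respectTransparency false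
set_option backward.isDefEq.respectTransparency.types false
set_option maxHeartbeats 1000000

universe u

open CategoryTheory CategoryTheory.Limits AlgebraicGeometry TopologicalSpace Opposite

noncomputable section

namespace Groth.Agent.GrothLem

open Groth.Agent Groth.Agent.RegEpi Groth.Agent.HilbBound Groth.Agent.PnCoh.Finite

open Polynomial in
/-- Finitely many polynomials of bounded degree with bounded integral values. -/
theorem finite_polys (D : ℕ) (a : ℤ) (C : ℕ → ℕ) :
    {P : ℚ[X] | P.natDegree ≤ D ∧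
      ∀ j ≤ D, ∃ c : ℤ, P.eval ((a + j : ℤ) : ℚ) = c ∧ c.natAbs ≤ C j}.Finite := by
  classical
  let ev : ℚ[X] → (Fin (D + 1) → ℚ) := fun P j => P.eval ((a + (j : ℕ) : ℤ) : ℚ)
  refine Set.Finite.of_finite_image (f := ev) ?_ ?_
  · refine (Set.Finite.pi (t := fun j : Fin (D + 1) =>
      (fun c : ℤ => (c : ℚ)) '' Set.Icc (-(C j : ℤ)) (C j)) fun j => (Set.finite_Icc _ _).image _).subset ?_
    rintro _ ⟨P, ⟨-, hP⟩, rfl⟩ j -
    obtain ⟨c, hc, hle⟩ := hP j (by omega)
    exact ⟨c, ⟨by omega, by omega⟩, hc.symm⟩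
  · intro P hP Q hQ h
    refine Polynomial.eq_of_degrees_lt_of_eval_index_eq (s := (Finset.univ : Finset (Fin (D + 1))))
      (v := fun j : Fin (D + 1) => ((a + (j : ℕ) : ℤ) : ℚ)) ?_ ?_ ?_ fun j _ => congrFun h j
    · intro i _ j _ hij
      have : (a + (i : ℕ) : ℤ) = a + (j : ℕ) := Int.cast_injective hij
      exact Fin.ext (by omega)
    · rw [Finset.card_univ, Fintype.card_fin]
      exact lt_of_le_of_lt Polynomial.degree_le_natDegree (by exact_mod_cast Nat.lt_succ_of_le hP.1)
    · rw [Finset.card_univ, Fintype.card_fin]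
      exact lt_of_le_of_lt Polynomial.degree_le_natDegree (by exact_mod_cast Nat.lt_succ_of_le hQ.1)

variable {k : Type u} [Field k] {n : ℕ}

local notation "PP" => Proj (CohB1.polyGrading n k)
local notation "MOD" => Scheme.Modules (Proj (CohB1.polyGrading n k))

attribute [local instance 10000] HilbBound.projOver

/-- A pure quotient of dimension `d` of a `ρ`-regular sheaf, with Hilbert polynomial `P`. -/
structure IsQuot (d : ℕ) (ρ : ℤ) {E Q : MOD} (q : E ⟶ Q) (P : Polynomial ℚ) : Prop where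
  epi : Epi q
  cohE : Coh.IsCoh E
  cohQ : Coh.IsCoh Q
  reg : Curv2.IsMRegular k n E ρ
  dim : HilbPoly.DimLT E (d + 1)
  pure : IsPureDeg Q d
  poly : ∀ t : ℤ, (chi (k := k) (n := n) Q t : ℚ) = P.eval (t : ℚ)

theorem IsQuot.dimQ {d : ℕ} {ρ : ℤ} {E Q : MOD} {q : E ⟶ Q} {P : Polynomial ℚ} (h : IsQuot d ρ q P) :
    HilbPoly.DimLT Q (d + 1) := by
  haveI := h.epi
  exact HilbPoly.dimLT_of_subset (QCoh.support_of_epi h.cohE.1 h.cohQ.1 q) h.dim

theorem natDegree_le_of_dim {M : MOD} (hM : Coh.IsCoh M) {d : ℕ} (hd : HilbPoly.DimLT M (d + 1))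
    {P : Polynomial ℚ} (hP : ∀ t : ℤ, (chi (k := k) (n := n) M t : ℚ) = P.eval (t : ℚ)) :
    P.natDegree ≤ d ∧ 0 ≤ StabCat.alpha d P := by
  haveI : IsProper (CohB1.ProjSpace n k ↘ Spec (CommRingCat.of k)) := PnCoh.Chow.isProper_toSpec n k
  have h := (isHilbPoly_iff hM).2 hP
  exact ⟨(HilbPoly.hilb_props (k := k) (X := CohB1.ProjSpace n k) (isAmple_O1 (k := k) (n := n)).1 hM
      (HilbPoly.le_of_lt_succ hd) h).1,
    HilbPoly.alpha_nonneg (k := k) (X := CohB1.ProjSpace n k) (isAmple_O1 (k := k) (n := n)) hM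
      (HilbPoly.le_of_lt_succ hd) h⟩

theorem IsQuot.notClosed {d : ℕ} {ρ : ℤ} {E Q : MOD} {q : E ⟶ Q} {P : Polynomial ℚ} (h : IsQuot (d + 1) ρ q P) :
    ∀ x, Curv2.IsWeakAssPoint Q x → ¬ IsClosed ({x} : Set PP) := fun x hx hc => by
  have := (VarDim.closedPoint_iff_deg_eq_zero (PP ↘ Spec (CommRingCat.of k)) x).1 hc
  have h2 := h.pure x hx
  omega

/-- Sections of a short exact sequence. -/
theorem dimH_X₂_le {S : ShortComplex MOD} (hS : S.ShortExact) (h₁ : Coh.IsCoh S.X₁) (h₂ : Coh.IsCoh S.X₂)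
    (h₃ : Coh.IsCoh S.X₃) : dimH (k := k) S.X₂ 0 ≤ dimH (k := k) S.X₁ 0 + dimH (k := k) S.X₃ 0 := by
  haveI : Module.Finite k (Coh.HH PP S.X₁ 0) := projSpace_finite_HH n k _ h₁ 0
  haveI : Module.Finite k (Coh.HH PP S.X₂ 0) := projSpace_finite_HH n k _ h₂ 0
  haveI : Module.Finite k (Coh.HH PP S.X₃ 0) := projSpace_finite_HH n k _ h₃ 0
  have e1 := LinearMap.finrank_range_add_finrank_ker (mapLin k S.g 0)
  have e2 : LinearMap.ker (mapLin k S.g 0) = LinearMap.range (mapLin k S.f 0) := CurveCohLib.ker_mapLin_g (A := k) hS 0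
  have e3 := Submodule.finrank_le (LinearMap.range (mapLin k S.g 0))
  have e4 := LinearMap.finrank_range_le (mapLin k S.f 0)
  rw [e2] at e1
  show Module.finrank k (Coh.HH PP S.X₂ 0) ≤ _
  rw [HilbBound.dimH, HilbBound.dimH]
  omega

/-- Restriction of a pure quotient to a general hyperplane. -/
theorem exists_section [Infinite k] {d : ℕ} {ρ : ℤ} {E Q : MOD} {q : E ⟶ Q} {P : Polynomial ℚ}
    (h : IsQuot (d + 1) ρ q P) :
    ∃ (E' Q' K' : MOD) (q' : E' ⟶ Q') (φ : K' ⟶ E'),
      IsQuot d ρ q' (P - P.comp (Polynomial.X - Polynomial.C 1)) ∧ Mono φ ∧ Coh.IsCoh K' ∧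
      (∀ t, h0 Q t ≤ h0 Q (t - 1) + h0 Q' t) ∧
      (∀ t, ρ ≤ t → h0 E' t ≤ h0 E t) ∧
      (∀ t, chi (k := k) (n := n) K' t = chi (k := k) (n := n) E' t - chi (k := k) (n := n) Q' t) ∧
      ∀ m : ℤ, ρ ≤ m → Curv2.IsMRegular k n K' m → ∀ (i : ℕ), 1 ≤ i → ∀ t : ℤ, m ≤ t →
        Subsingleton (Coh.HH PP ((twF t).obj Q) i) := by
  haveI : IsNoetherian PP := Proj16.isNoetherian_proj _
  obtain ⟨hq, hE, hQ, hreg, hdim, hpure, hpoly⟩ := h
  haveI := hq
  have hdimQ : HilbPoly.DimLT Q (d + 2) := HilbPoly.dimLT_of_subset (QCoh.support_of_epi hE.1 hQ.1 q) hdim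
  have hK : Coh.IsCoh (kernel q) := QCoh.isCoh_kernel hE hQ q
  obtain ⟨S, hS, hSpure⟩ := exists_avoid_pure hQ hpure hdimQ
  obtain ⟨s, hs⟩ := exists_sec_avoiding (k := k) (n := n) ({x : PP | Curv2.IsWeakAssPoint E x} ∪
    {x | Curv2.IsWeakAssPoint Q x} ∪ {x | Curv2.IsWeakAssPoint (kernel q) x} ∪ S)
    ((((finite_weakAss hE).union (finite_weakAss hQ)).union (finite_weakAss hK)).union hS)
  haveI hmE : Mono (mu s E) := mono_mu s hE fun x hx => hs x (Or.inl (Or.inl (Or.inl hx)))
  haveI hmQ : Mono (mu s Q) := mono_mu s hQ fun x hx => hs x (Or.inl (Or.inl (Or.inr hx)))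
  haveI hmK : Mono (mu s (kernel q)) := mono_mu s hK fun x hx => hs x (Or.inl (Or.inr hx))
  have hCE : Coh.IsCoh (cokernel (mu s E)) := QCoh.isCoh_cokernel hE.1 (isCoh_tw hE 1) _
  have hCQ : Coh.IsCoh (cokernel (mu s Q)) := QCoh.isCoh_cokernel hQ.1 (isCoh_tw hQ 1) _
  have hCK : Coh.IsCoh (cokernel (mu s (kernel q))) := QCoh.isCoh_cokernel hK.1 (isCoh_tw hK 1) _
  haveI : Epi ((twF (k := k) (n := n) 1).map q) := inferInstance
  let c : cokernel (mu s E) ⟶ cokernel (mu s Q) :=
    cokernel.map (mu s E) (mu s Q) q ((twF 1).map q) (mulHom_naturality s q).symm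
  haveI : Epi c := by
    have hfac : cokernel.π (mu s E) ≫ c = (twF (k := k) (n := n) 1).map q ≫ cokernel.π (mu s Q) :=
      cokernel.π_desc _ _ _
    exact epi_of_epi_fac hfac
  have hSK : (ShortComplex.mk (kernel.ι q) q (kernel.condition q)).ShortExact :=
    .mk' (ShortComplex.exact_of_f_is_kernel _ (kernelIsKernel q)) inferInstance hq
  obtain ⟨γ, hγ⟩ := exists_mono_cokernel (twF (k := k) (n := n) 1) (μ := mu s (kernel q)) (μ' := mu s E)
    (μ'' := mu s Q) (kernel.ι q) q (kernel.condition q) hSK (mulHom_naturality s (kernel.ι q))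
    (mulHom_naturality s q)
  haveI := hγ
  refine ⟨_, _, _, (twF (k := k) (n := n) (-1)).map c, (twF (k := k) (n := n) (-1)).map γ,
    ⟨inferInstance, isCoh_tw hCE _, isCoh_tw hCQ _, isMRegular_quotient' hE hreg _,
      HilbBound.dimLT_quotient hE s (fun x hx => hs x (Or.inl (Or.inl (Or.inl hx)))) hdim,
      hSpure s (fun x hx => hs x (Or.inl (Or.inl (Or.inr hx)))) (fun x hx => hs x (Or.inr hx)), fun t => ?_⟩,
    Functor.map_mono _ _, isCoh_tw hCK _, fun t => ?_, fun t ht => ?_, fun t => ?_, fun m hm hregK i hi t ht => ?_⟩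
  · rw [chi_quotient hQ (mu s Q), Int.cast_sub, hpoly, hpoly, Polynomial.eval_sub, Polynomial.eval_comp,
      Polynomial.eval_sub, Polynomial.eval_X, Polynomial.eval_C, Int.cast_sub, Int.cast_one]
  · have hseq := RegDescent.twSeq_exact (ProjRegular.coords k n) ProjRegular.coords_mem ProjRegular.coords_cover
      (S := ShortComplex.mk (mu s Q) (cokernel.π _) (cokernel.condition _))
      (.mk' (ShortComplex.exact_of_g_is_cokernel _ (cokernelIsCokernel _)) inferInstance inferInstance) (t - 1)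
    have h1 := dimH_X₂_le (k := k) hseq (isCoh_tw hQ _) (isCoh_tw (isCoh_tw hQ 1) _) (isCoh_tw hCQ _)
    obtain ⟨e⟩ := twF_twF_iso (k := k) (n := n) Q 1 (t - 1) t (by ring)
    obtain ⟨e'⟩ := twF_twF_iso (k := k) (n := n) (cokernel (mu s Q)) (-1) t (t - 1) (by ring)
    show dimH (k := k) ((twF t).obj Q) 0 ≤ dimH (k := k) ((twF (t - 1)).obj Q) 0 +
      dimH (k := k) ((twF t).obj ((twF (-1)).obj (cokernel (mu s Q)))) 0
    rw [← dimH_congr (k := k) e, dimH_congr (k := k) e']
    exact h1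
  · have h1 : chi (k := k) (n := n) ((twF (-1)).obj (cokernel (mu s E))) t =
        (h0 ((twF (-1)).obj (cokernel (mu s E))) t : ℤ) := by
      rw [chi_eq]
      exact euler_eq_single fun i hi =>
        subsingleton_of_regular (isCoh_tw hCE (-1)) (isMRegular_quotient' hE hreg _) hi (by omega)
    have h2 : ∀ j : ℤ, ρ - 1 ≤ j → chi (k := k) (n := n) E j = (h0 E j : ℤ) := fun j hj => by
      rw [chi_eq]
      exact euler_eq_single fun i hi => subsingleton_of_regular hE hreg hi (by omega)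
    rw [chi_quotient hE (mu s E), h2 t (by omega), h2 (t - 1) (by omega)] at h1
    omega
  · have hadd := chi_add (k := k) (n := n) hSK hK hE hQ
    dsimp only at hadd
    rw [chi_quotient hK (mu s (kernel q)), chi_quotient hE (mu s E), chi_quotient hQ (mu s Q)]
    have h1 := hadd t
    have h2 := hadd (t - 1)
    omega
  · have hKvan : ∀ (p : ℕ), 1 ≤ p → ∀ j : ℤ, m ≤ j → Subsingleton (Coh.HH PP ((twF j).obj (kernel q)) (p + 1)) := by
      intro p hp j hj
      obtain ⟨d₀, hd₀⟩ := RegDescent.exists_vanishing_twF (k := k) (n := n) hK (p + 1) (by omega)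
      have hstep : ∀ (a : ℕ) (j : ℤ), m ≤ j → d₀ ≤ j + a →
          Subsingleton (Coh.HH PP ((twF j).obj (kernel q)) (p + 1)) := by
        intro a
        induction a with
        | zero => intro j _ h; exact hd₀ j (by simpa using h)
        | succ a ih =>
          intro j hjm h
          have hseq := RegDescent.twSeq_exact (ProjRegular.coords k n) ProjRegular.coords_mem
            ProjRegular.coords_cover
            (S := ShortComplex.mk (mu s (kernel q)) (cokernel.π _) (cokernel.condition _))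
            (.mk' (ShortComplex.exact_of_g_is_cokernel _ (cokernelIsCokernel _)) inferInstance inferInstance) j
          obtain ⟨e₃⟩ := twF_twF_iso (k := k) (n := n) (cokernel (mu s (kernel q))) (-1) (j + 1) j (by ring)
          obtain ⟨e₂⟩ := twF_twF_iso (k := k) (n := n) (kernel q) 1 j (j + 1) (by ring)
          have hinj := RegDescent.HHlin_f_succ_injective (k := k) hseq p
            (QCoh.subsingleton_HH_of_iso e₃ p (subsingleton_of_regular (isCoh_tw hCK (-1)) hregK hp (by omega)))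
          exact @Function.Injective.subsingleton _ _ _ hinj
            (QCoh.subsingleton_HH_of_iso e₂.symm (p + 1) (ih (j + 1) (by omega) (by push_cast at h; omega)))
      exact hstep (d₀ - j).toNat j hj (by omega)
    exact subsingleton_HH_X₃ (RegDescent.twSeq_exact (ProjRegular.coords k n) ProjRegular.coords_mem
      ProjRegular.coords_cover hSK t) i (subsingleton_of_regular hE hreg hi (by omega)) (hKvan i hi t ht)

/-- The two top coefficients of the restricted polynomial. -/
theorem alpha_section {d : ℕ} {P : Polynomial ℚ} (hdeg : P.natDegree ≤ d + 2) (hpos : 0 ≤ StabCat.alpha (d + 2) P)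
    {r b : ℕ} (hr : StabCat.alpha (d + 2) P ≤ r) (hb : StabCat.alpha (d + 1) P ≤ b) :
    StabCat.alpha (d + 1) (P - P.comp (Polynomial.X - Polynomial.C 1)) ≤ r ∧
      StabCat.alpha d (P - P.comp (Polynomial.X - Polynomial.C 1)) ≤ b := by
  obtain ⟨h1, h2⟩ := alpha_diff (e := d) hdeg
  rw [h1, h2]
  exact ⟨hr, by linarith⟩

/-- The sections of a pure quotient are bounded by a function which vanishes in negative degrees. -/
theorem exists_h0_bound (n : ℕ) (ρ : ℤ) : ∀ (d r b : ℕ), ∃ (B : ℤ → ℕ) (t₀ : ℤ),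
    ∀ (k : Type u) [Field k] [IsAlgClosed k] {E Q : Scheme.Modules (Proj (CohB1.polyGrading n k))} {q : E ⟶ Q}
      {P : Polynomial ℚ}, IsQuot (d + 1) ρ q P → StabCat.alpha (d + 1) P ≤ r → StabCat.alpha d P ≤ b →
        ∀ t, h0 Q t ≤ B t ∧ (t < t₀ → h0 Q t = 0)
  | 0, r, b => by
    let N : ℕ := r * (ρ - 1).natAbs + b
    refine ⟨fun t => r * t.natAbs + b + N, ρ - 1 - N, fun k _ _ E Q q P h hr hb t => ?_⟩
    obtain ⟨hdeg, hpos⟩ := natDegree_le_of_dim h.cohQ h.dimQ h.poly
    have hbound : ∀ j : ℤ, ρ - 1 ≤ j → h0 Q j ≤ r * j.natAbs + b := by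
      intro j hj
      haveI := h.epi
      have hsub : ∀ i, 1 ≤ i → Subsingleton (Coh.HH (Proj (CohB1.polyGrading n k)) ((twF j).obj Q) i) := by
        intro i hi
        rcases eq_or_lt_of_le hi with rfl | hi'
        · exact subsingleton_HH_X₃ (RegDescent.twSeq_exact (ProjRegular.coords k n) ProjRegular.coords_mem
            ProjRegular.coords_cover
            (S := ShortComplex.mk (kernel.ι q) q (kernel.condition q))
            (.mk' (ShortComplex.exact_of_f_is_kernel _ (kernelIsKernel q)) inferInstance inferInstance) j) 1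
            (subsingleton_of_regular h.cohE h.reg le_rfl (by omega))
            (subsingleton_above 1 (QCoh.isCoh_kernel h.cohE h.cohQ q) (HilbPoly.dimLT_of_subset
              (QCoh.mem_support_of_mono (QCoh.isCoh_kernel h.cohE h.cohQ q).1 h.cohE.1 (kernel.ι q)) h.dim)
              2 (by omega) _)
        · exact subsingleton_above 1 h.cohQ h.dimQ i hi' _
      have hc : ((h0 Q j : ℤ) : ℚ) = P.eval (j : ℚ) := by
        rw [← h.poly j, chi_eq, euler_eq_single hsub]
        rfl
      rw [Polynomial.eval_eq_sum_range' (Nat.lt_succ_of_le hdeg), Finset.sum_range_succ,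
        Finset.sum_range_one, pow_zero, mul_one, pow_one] at hc
      simp only [StabCat.alpha, Nat.factorial, zero_add, Nat.cast_one, Nat.succ_eq_add_one, mul_one, one_mul] at hr hb hpos
      push_cast at hc hr hb hpos
      have h1 : P.coeff 1 * (j : ℚ) ≤ (r : ℚ) * (j.natAbs : ℚ) := by
        refine (le_abs_self _).trans ?_
        rw [abs_mul, abs_of_nonneg hpos, ← Int.cast_abs, ← Int.natCast_natAbs, Int.cast_natCast]
        exact mul_le_mul_of_nonneg_right hr (Nat.cast_nonneg _)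
      have h2 : (h0 Q j : ℚ) ≤ (r : ℚ) * (j.natAbs : ℚ) + (b : ℚ) := by linarith
      exact_mod_cast h2
    have hgrow : ∀ (a : ℕ) (j : ℤ), h0 Q j ≠ 0 → h0 Q j + a ≤ h0 Q (j + a) := by
      intro a
      induction a with
      | zero => intro j _; simp
      | succ a ih =>
        intro j hj
        have h1 := ih j hj
        have h2 := h0_lt h.cohQ h.notClosed (j + a) (by omega)
        rw [show j + ((a + 1 : ℕ) : ℤ) = j + a + 1 by push_cast; ring]
        omega
    rcases le_or_gt (ρ - 1) t with ht | ht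
    · exact ⟨(hbound t ht).trans (Nat.le_add_right _ _), fun h' => absurd h' (by omega)⟩
    rcases eq_or_ne (h0 Q t) 0 with h0t | h0t
    · exact ⟨by rw [h0t]; exact Nat.zero_le _, fun _ => h0t⟩
    have h1 := hgrow (ρ - 1 - t).toNat t h0t
    rw [Int.toNat_of_nonneg (by omega), add_sub_cancel] at h1
    have h2 := hbound (ρ - 1) le_rfl
    refine ⟨by dsimp only [N] at *; omega, fun h' => ?_⟩
    have h3 : ((ρ - 1 - t).toNat : ℤ) = ρ - 1 - t := Int.toNat_of_nonneg (by omega)
    omega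
  | d + 1, r, b => by
    obtain ⟨B', t₀, hB'⟩ := exists_h0_bound n ρ d r b
    refine ⟨fun t => ∑ j ∈ Finset.Icc t₀ t, B' j, t₀, fun k _ _ E Q q P h hr hb => ?_⟩
    obtain ⟨hdeg, hpos⟩ := natDegree_le_of_dim h.cohQ h.dimQ h.poly
    obtain ⟨E', Q', K', q', φ, hq', -, -, hstep, -, -, -⟩ := exists_section h
    obtain ⟨hr', hb'⟩ := alpha_section hdeg hpos hr hb
    have hH := hB' k hq' hr' hb'
    have hzero : ∀ t, t < t₀ → h0 Q t = 0 := by
      intro t ht
      by_contra hne
      have h1 := hstep t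
      rw [(hH t).2 ht, add_zero] at h1
      have h2 := h0_lt h.cohQ h.notClosed (t - 1) (by omega)
      rw [sub_add_cancel] at h2
      omega
    have hsum : ∀ (a : ℕ) (t : ℤ), t = t₀ + a - 1 → h0 Q t ≤ ∑ j ∈ Finset.Icc t₀ t, B' j := by
      intro a
      induction a with
      | zero => intro t ht; rw [hzero t (by omega)]; exact Nat.zero_le _
      | succ a ih =>
        intro t ht
        have h1 := hstep t
        have h2 := ih (t - 1) (by push_cast at ht; omega)
        have h3 := (hH t).1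
        have hle : t₀ ≤ t := by push_cast at ht; omega
        rw [show Finset.Icc t₀ t = insert t (Finset.Icc t₀ (t - 1)) by
          ext x; simp only [Finset.mem_insert, Finset.mem_Icc]; omega, Finset.sum_insert (by simp)]
        omega
    refine fun t => ⟨?_, hzero t⟩
    rcases lt_or_ge t t₀ with ht | ht
    · rw [hzero t ht]; exact Nat.zero_le _
    · exact hsum (t - t₀ + 1).toNat t (by omega)

/-- Hilbert polynomials of regular sheaves with bounded sections. -/
theorem finite_regular_polys (n : ℕ) (D : ℕ) (ρ : ℤ) (β : ℕ → ℕ) :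
    ∃ Ps : Set (Polynomial ℚ), Ps.Finite ∧
      ∀ (k : Type u) [Field k] {E : Scheme.Modules (Proj (CohB1.polyGrading n k))}, Coh.IsCoh E →
        Curv2.IsMRegular k n E ρ → HilbPoly.DimLT E (D + 1) → (∀ j : ℕ, h0 E (ρ + j) ≤ β j) →
        ∃ P ∈ Ps, ∀ t : ℤ, (chi (k := k) (n := n) E t : ℚ) = P.eval (t : ℚ) := by
  refine ⟨_, finite_polys D ρ β, fun k _ E hE hreg hdim hβ => ?_⟩
  obtain ⟨P, hP⟩ := exists_chi_poly hE
  refine ⟨P, ⟨(natDegree_le_of_dim hE hdim hP).1, fun j _ => ⟨h0 E (ρ + j), ?_, by simpa using hβ j⟩⟩, hP⟩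
  rw [← hP, chi_eq, euler_eq_single fun i hi => subsingleton_of_regular hE hreg hi (by omega)]
  rfl

/-- **Grothendieck's lemma.** -/
theorem exists_finite_polys (n : ℕ) (ρ : ℤ) (β : ℕ → ℕ) : ∀ (d r b : ℕ), ∃ Ps : Set (Polynomial ℚ), Ps.Finite ∧
    ∀ (k : Type u) [Field k] [IsAlgClosed k] {E Q : Scheme.Modules (Proj (CohB1.polyGrading n k))} {q : E ⟶ Q}
      {P : Polynomial ℚ}, IsQuot d ρ q P → StabCat.alpha d P ≤ r → StabCat.alpha (d - 1) P ≤ b →
        (∀ j : ℕ, h0 E (ρ + j) ≤ β j) → P ∈ Ps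
  | 0, r, b => by
    refine ⟨_, finite_polys 0 ρ (fun _ => r), fun k _ _ E Q q P h hr _ _ => ?_⟩
    obtain ⟨hdeg, hpos⟩ := natDegree_le_of_dim h.cohQ h.dimQ h.poly
    refine ⟨hdeg, fun j _ => ⟨h0 Q (ρ + j), ?_, ?_⟩⟩
    · rw [← h.poly, chi_eq, euler_eq_single fun i hi => subsingleton_above 0 h.cohQ h.dimQ i hi _]
      rfl
    · have he : ((h0 Q (ρ + j) : ℤ) : ℚ) = P.coeff 0 := by
        rw [← show P.eval ((ρ + j : ℤ) : ℚ) = P.coeff 0 by
            rw [Polynomial.eval_eq_sum_range' (Nat.lt_succ_of_le hdeg), Finset.sum_range_one, pow_zero, mul_one],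
          ← h.poly, chi_eq, euler_eq_single fun i hi => subsingleton_above 0 h.cohQ h.dimQ i hi _]
        rfl
      simp only [StabCat.alpha, Nat.factorial_zero, Nat.cast_one, one_mul, ← he, Int.cast_natCast, Nat.cast_le] at hr
      simpa using hr
  | d + 1, r, b => by
    classical
    obtain ⟨Qs, hQs, hQ'⟩ := exists_finite_polys n ρ β d r (max r b)
    obtain ⟨Es, hEs, hE'⟩ := finite_regular_polys.{u} n d ρ β
    obtain ⟨B, t₀, hB⟩ := exists_h0_bound.{u} n ρ d r b
    let Rs : Set (Polynomial ℚ) :=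
      (fun p : Polynomial ℚ × Polynomial ℚ => (p.1 - p.2).comp (Polynomial.X + Polynomial.C (ρ : ℚ))) '' (Es ×ˢ Qs)
    have hRs : Rs.Finite := (hEs.prod hQs).image _
    choose mR hmR1 hmR using fun R => exists_regularity_bound.{u} n (d + 1) R β
    obtain ⟨m, hmax⟩ := (hRs.image mR).bddAbove
    let t₁ : ℤ := max m 0 + ρ
    refine ⟨_, finite_polys (d + 1) t₁ (fun j => B (t₁ + j)), fun k _ _ E Q q P h hr hb hβ => ?_⟩
    obtain ⟨hdeg, hpos⟩ := natDegree_le_of_dim h.cohQ h.dimQ h.poly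
    obtain ⟨E', Q', K', q', φ, hq', hφ, hK', -, hh0, hchi, hvan⟩ := exists_section h
    haveI := hφ
    have hab : StabCat.alpha d (P - P.comp (Polynomial.X - Polynomial.C 1)) ≤ r ∧
        StabCat.alpha (d - 1) (P - P.comp (Polynomial.X - Polynomial.C 1)) ≤ (max r b : ℕ) := by
      rcases d with _ | d
      · have hc : (P - P.comp (Polynomial.X - Polynomial.C 1)).coeff 0 = P.coeff 1 := by
          rw [Polynomial.coeff_sub, Polynomial.coeff_zero_eq_eval_zero, Polynomial.coeff_zero_eq_eval_zero,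
            Polynomial.eval_comp, Polynomial.eval_sub, Polynomial.eval_X, Polynomial.eval_C,
            Polynomial.eval_eq_sum_range' (Nat.lt_succ_of_le hdeg),
            Polynomial.eval_eq_sum_range' (Nat.lt_succ_of_le hdeg),
            Finset.sum_range_succ, Finset.sum_range_one, Finset.sum_range_succ, Finset.sum_range_one]
          ring
        have ha : StabCat.alpha 0 (P - P.comp (Polynomial.X - Polynomial.C 1)) = StabCat.alpha 1 P := by
          simp only [StabCat.alpha, hc, Nat.factorial_zero, Nat.factorial_one]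
        exact ⟨ha ▸ hr, ha ▸ hr.trans (by exact_mod_cast le_max_left r b)⟩
      · exact ⟨(alpha_section hdeg hpos hr hb).1,
          (alpha_section hdeg hpos hr hb).2.trans (by exact_mod_cast le_max_right r b)⟩
    have hβ' : ∀ j : ℕ, h0 E' (ρ + j) ≤ β j := fun j => (hh0 _ (by omega)).trans (hβ j)
    have hQmem := hQ' k hq' hab.1 hab.2 hβ'
    obtain ⟨PE, hPE, hPE'⟩ := hE' k hq'.cohE hq'.reg hq'.dim hβ'
    let R : Polynomial ℚ :=
      (PE - (P - P.comp (Polynomial.X - Polynomial.C 1))).comp (Polynomial.X + Polynomial.C (ρ : ℚ))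
    have hRmem : R ∈ Rs := ⟨(PE, _), ⟨hPE, hQmem⟩, rfl⟩
    have hreg0 : Curv2.IsMRegular k n ((twF ρ).obj E') 0 := by
      intro i hi hin
      obtain ⟨e⟩ := twF_twF_iso (k := k) (n := n) E' ρ (0 - (i : ℤ)) (ρ - (i : ℤ)) (by ring)
      exact QCoh.subsingleton_HH_of_iso e.symm i (hq'.reg i hi hin)
    have hK0 : Curv2.IsMRegular k n ((twF ρ).obj K') (mR R) :=
      hmR R k _ _ ((twF ρ).map φ) (Functor.map_mono _ _) (isCoh_tw hK' _) (isCoh_tw hq'.cohE _) hreg0
        (HilbPoly.dimLT_of_subset (HilbPoly.support_tensor_subset _ _) hq'.dim)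
        (fun t => by
          rw [chi_Tw, hchi, Int.cast_sub, hPE', hq'.poly]
          simp only [R, Polynomial.eval_comp, Polynomial.eval_add, Polynomial.eval_X, Polynomial.eval_C,
            Polynomial.eval_sub, Int.cast_add]
          ring_nf)
        (fun j => by rw [h0_Tw]; exact hβ' j)
    have hKreg : Curv2.IsMRegular k n K' (mR R + ρ) := by
      intro i hi hin
      obtain ⟨e⟩ := twF_twF_iso (k := k) (n := n) K' ρ (mR R - (i : ℤ)) (mR R + ρ - (i : ℤ)) (by ring)
      exact QCoh.subsingleton_HH_of_iso e i (hK0 i hi hin)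
    refine ⟨hdeg, fun j _ => ⟨h0 Q (t₁ + j), ?_, by simpa using (hB k h hr hb (t₁ + j)).1⟩⟩
    have h1 : mR R ≤ m := hmax ⟨R, hRmem, rfl⟩
    have h2 := hmR1 R
    rw [← h.poly, chi_eq, euler_eq_single fun i hi => hvan _ (by omega) hKreg i hi _ (by omega)]
    rfl

end Groth.Agent.GrothLem

end
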