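import Groth.Agent.AssPtX.Noeth
import Groth.Agent.QCoh.SubCompare
import Groth.Agent.QCoh.ExtendFT
import Groth.Agent.HilbPoly.Stab
import Groth.Agent.VarDim.Top
import Groth.Prelude.Def_ShStab

/-!
# Associated points of pure sheaves
-/

set_option autoImplicit false
set_option linter.style.haveILetI false
set_option linter.unusedSectionVars false
set_option backward.isDefEq.respectTransparency false
set_option backward.isDefEq.respectTransparency.types false
set_option maxHeartbeats 1000000

universe u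

open CategoryTheory CategoryTheory.Limits AlgebraicGeometry TopologicalSpace Opposite

noncomputable section

namespace Groth.Agent.GrothLem

open Groth.Agent

variable {X : Scheme.{u}}

/-- A coherent subsheaf supported on the closure of an associated point. -/
theorem exists_sub_supported [IsNoetherian X] {M : X.Modules} (hM : Coh.IsCoh M) {x : X}
    (hx : Curv2.IsWeakAssPoint M x) :
    ∃ (G : X.Modules) (ι : G ⟶ M), Mono ι ∧ Coh.IsCoh G ∧ ¬ IsZero G ∧ CohB1.support G ⊆ closure {x} := by
  let V : X.Opens := ⟨(closure {x})ᶜ, isClosed_closure.isOpen_compl⟩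
  let η := (Scheme.Modules.restrictAdjunction V.ι).unit.app M
  haveI : QuasiCompact V.ι := inferInstance
  have hT : Coh.IsQCoh ((Scheme.Modules.pushforward V.ι).obj ((Scheme.Modules.restrictFunctor V.ι).obj M)) :=
    QCoh.isQCoh_pushforward V.ι (QCoh.isQCoh_restrict V.ι hM.1)
  have hG : Coh.IsCoh (kernel η) := QCoh.isCoh_of_mono (kernel.ι η) hM (QCoh.isQCoh_kernel hM.1 hT η)
  refine ⟨kernel η, kernel.ι η, inferInstance, hG, fun hz => ?_, fun z hz => ?_⟩
  · obtain ⟨U, hU, hxU, -⟩ := exists_isAffineOpen_mem_and_subset (x := x) (U := ⊤) trivial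
    haveI : IsNoetherianRing Γ(X, U) := IsLocallyNoetherian.component_noetherian ⟨U, hU⟩
    obtain ⟨-, s, hs⟩ := isAssociatedPrime_iff.1 (AssPtX.weakAss_subset_associatedPrimes
      ((AssPtX.isWeakAssPoint_iff_sections hM.1 hU hxU).1 hx))
    have hsupp : ∀ y (hy : y ∈ U), ¬ x ⤳ y → M.presheaf.germ U y hy s = 0 := fun y hy hxy => by
      obtain ⟨r, hr, hrz⟩ := Set.not_subset.1
        (fun hsub => hxy ((AssPtX.primeIdealOf_le_iff hU hxU hy).1 hsub))
      refine (QCoh.germ_eq_zero_iff hM.1 hU hy s).2 ⟨r, (QCoh.mem_basicOpen_iff_notMem hU hy r).2 hrz, ?_⟩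
      have hr' : r ∈ (hU.primeIdealOf ⟨x, hxU⟩).asIdeal := hr
      rw [hs, Submodule.mem_colon_singleton, Submodule.mem_bot] at hr'
      exact hr'
    have hη : η.app U s = 0 := by
      show M.presheaf.map (homOfLE (V.ι.image_preimage_le U)).op s = 0
      refine AssPtX.eq_zero_of_germ hM.1 _ fun y hy _ => ?_
      refine (M.presheaf.germ_res_apply (homOfLE (V.ι.image_preimage_le U)) y hy s).trans ?_
      refine hsupp y _ fun hxy => ?_
      obtain ⟨⟨y', hy'⟩, -, rfl⟩ := hy
      exact hy' hxy.mem_closure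
    obtain ⟨w, hw⟩ := QCoh.exists_kernel_lift η U s hη
    have hs0 : s = 0 := by
      rw [← hw]
      have h0 : kernel.ι η = 0 := hz.eq_of_src _ _
      rw [h0]
      rfl
    have h1 : (1 : Γ(X, U)) ∈ (hU.primeIdealOf ⟨x, hxU⟩).asIdeal := by
      rw [hs, Submodule.mem_colon_singleton, Submodule.mem_bot, hs0, smul_zero]
    exact (hU.primeIdealOf ⟨x, hxU⟩).isPrime.ne_top ((Ideal.eq_top_iff_one _).2 h1)
  · by_contra hzx
    have hzV : z ∈ V := hzx
    refine hz (subsingleton_of_forall_eq 0 fun g => ?_)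
    obtain ⟨W, hzW, w, rfl⟩ := TopCat.Presheaf.exists_germ_eq (kernel η).presheaf g
    let W' := W ⊓ V
    have hzW' : z ∈ W' := ⟨hzW, hzV⟩
    rw [← (kernel η).presheaf.germ_res_apply (homOfLE (inf_le_left : W' ≤ W)) z hzW' w]
    suffices h : (kernel η).presheaf.map (homOfLE (inf_le_left : W' ≤ W)).op w = 0 by rw [h, map_zero]
    refine QCoh.app_injective (kernel.ι η) W' ?_
    rw [map_zero]
    let u : Γ(M, W') := (kernel.ι η).app W' ((kernel η).presheaf.map (homOfLE (inf_le_left : W' ≤ W)).op w)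
    have h0 : M.presheaf.map (homOfLE (V.ι.image_preimage_le W')).op u = 0 :=
      congr(($(kernel.condition η)).app W' ((kernel η).presheaf.map (homOfLE (inf_le_left : W' ≤ W)).op w))
    show u = 0
    refine AssPtX.eq_zero_of_germ hM.1 _ fun y hy _ => ?_
    have hy' : y ∈ V.ι ''ᵁ V.ι ⁻¹ᵁ W' := ⟨⟨y, hy.2⟩, hy, rfl⟩
    rw [← M.presheaf.germ_res_apply (homOfLE (V.ι.image_preimage_le W')) y hy' u, h0, map_zero]

/-- The associated points of a pure sheaf of dimension `d` have closures of dimension `d`. -/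
theorem deg_eq_of_isPure {k : Type u} [Field k] (p : X ⟶ Spec (CommRingCat.of k)) [LocallyOfFiniteType p]
    [IsNoetherian X] {M : X.Modules} (hM : Coh.IsCoh M) {d : ℕ} (h : ShStab.IsPure X M d) {x : X}
    (hx : Curv2.IsWeakAssPoint M x) : VarDim.deg p x = d := by
  obtain ⟨G, ι, hι, hG, hG0, hGx⟩ := exists_sub_supported hM hx
  have hd := h G ι hι hG hG0
  have h1 : (d : WithBot ℕ∞) ≤ ((VarDim.deg p x : ℕ∞) : WithBot ℕ∞) := by
    rw [← hd, ← VarDim.topologicalKrullDim_closure_singleton p x]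
    exact H23.TopDim.dim_le_dim_of_subset hGx
  have hne : ¬ IsZero M := fun hz => hG0 (IsZero.of_mono ι hz)
  have hMd := h M (𝟙 M) inferInstance hM hne
  have h2 : ((VarDim.deg p x : ℕ∞) : WithBot ℕ∞) ≤ (d : WithBot ℕ∞) := by
    rw [← hMd, ← VarDim.topologicalKrullDim_closure_singleton p x]
    exact H23.TopDim.dim_le_dim_of_subset ((QCoh.isClosed_support_of_isFT hM.1 hM.2).closure_subset_iff.2
      (Set.singleton_subset_iff.2 (AssPtX.mem_support_of_isWeakAssPoint hx)))
  exact le_antisymm (by exact_mod_cast h2) (by exact_mod_cast h1)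

end Groth.Agent.GrothLem

end
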