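import Groth.Agent.GrothLem.Finite
import Groth.Agent.GrothLem.PureX
import Groth.Agent.Bdd.Quotients
import Groth.Agent.HilbBound.Closed
import Groth.Agent.TauNum.Bounded
import Groth.Agent.VarDim.Fibre
import Groth.Agent.H23.SpClosed
import Groth.Agent.Lib.AmpleEmbed

/-!
# Grothendieck's lemma on a projective scheme
-/

set_option autoImplicit false
set_option linter.style.haveILetI false
set_option linter.unusedSectionVars false
set_option backward.isDefEq.respectTransparency false
set_option backward.isDefEq.respectTransparency.types false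
set_option maxHeartbeats 1000000

universe u

open CategoryTheory CategoryTheory.Limits AlgebraicGeometry TopologicalSpace Opposite

noncomputable section

namespace Groth.Agent.GrothLem

open Groth.Agent Groth.Agent.RegEpi Groth.Agent.HilbBound Groth.Agent.PnCoh.Finite
open scoped Groth.Agent.H23.PicMul

attribute [local instance 10000] HilbBound.projOver

variable {k : Type u} [Field k] {n : ℕ} {X : Scheme.{u}} [X.Over (Spec (CommRingCat.of k))]
  [IsProper (X ↘ Spec (CommRingCat.of k))]
  (r : X ⟶ CohB1.ProjSpace n k) [IsClosedImmersion r]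
  (hr : r ≫ CohB1.ProjSpace.toSpec n k = X ↘ Spec (CommRingCat.of k))
  {L : X.Modules} {b : ℕ}
  (hb : Nonempty ((Scheme.Modules.pullback r).obj (Twist.twistProjSpace n k 1) ≅ CohB1.tensorPow L b))

local notation "PP" => Proj (CohB1.polyGrading n k)

include hr in
/-- Euler characteristics of the direct image. -/
theorem chi_pushforward {M : X.Modules} (hM : Coh.IsCoh M) (t : ℤ) :
    chi (k := k) (n := n) ((Scheme.Modules.pushforward r).obj M) t = Curv2.euler k X (Pic13.twistOn k r M t) := by
  rw [chi_eq]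
  refine finsum_congr fun q => ?_
  rw [FppfPic.MReg.finrank_push k n X r hr M hM t q]
  rfl

include hr hb in
/-- The Hilbert polynomial of the direct image. -/
theorem chi_pushforward_hilb {M : X.Modules} (hM : Coh.IsCoh M) {P : Polynomial ℚ}
    (hP : ShStab.IsHilbPoly k X L M P) (t : ℤ) :
    (chi (k := k) (n := n) ((Scheme.Modules.pushforward r).obj M) t : ℚ) =
      (P.comp (Polynomial.C (b : ℚ) * Polynomial.X)).eval (t : ℚ) := by
  haveI : IsLocallyNoetherian X := LocallyOfFiniteType.isLocallyNoetherian (X ↘ Spec (CommRingCat.of k))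
  refine chi_eq_of_nat (QCoh.isCoh_pushforward_finite r hM) (fun j => ?_) t
  rw [chi_pushforward r hr hM, Polynomial.eval_comp, Polynomial.eval_mul, Polynomial.eval_C, Polynomial.eval_X,
    ← Nat.cast_mul, ← hP (b * j)]
  refine congrArg Int.cast (CurveCohLib.euler_congr (k := k) (H23.PicMul.cl_eq_iff.1 ?_).some)
  rw [ShStab.twist, H23.PicMul.cl_tensor, H23.PicMul.cl_tensorPow, TauNum.cl_twistOn_natCast,
    H23.PicMul.cl_eq_iff.2 hb, H23.PicMul.cl_tensorPow, pow_mul]

theorem coeff_comp_C_mul_X (P : Polynomial ℚ) (c : ℚ) (j : ℕ) :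
    (P.comp (Polynomial.C c * Polynomial.X)).coeff j = c ^ j * P.coeff j := by
  rw [Polynomial.comp_C_mul_X_coeff, mul_comm]

omit [X.Over (Spec (CommRingCat.of k))] [IsProper (X ↘ Spec (CommRingCat.of k))] in
theorem dimLT_pushforward {M : X.Modules} (hM : Coh.IsCoh M) {d : ℕ}
    (hd : topologicalKrullDim ↥(CohB1.support M) ≤ (d : WithBot ℕ∞)) :
    HilbPoly.DimLT ((Scheme.Modules.pushforward r).obj M) (d + 1) := by
  have hsub : CohB1.support ((Scheme.Modules.pushforward r).obj M) ⊆ r '' CohB1.support M := by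
    intro y hy
    obtain ⟨x, rfl⟩ := QCoh.support_push_subset r hM.1 hy
    refine ⟨x, fun hx => hy ?_, rfl⟩
    obtain ⟨e⟩ := H23.SpClosed.nonempty_stalkEquiv r M x
    exact e.toEquiv.subsingleton
  refine lt_of_le_of_lt ((H23.TopDim.dim_le_dim_of_subset hsub).trans
    (le_trans (le_of_eq (r.isClosedEmbedding.isEmbedding.homeomorphImage _).symm.isHomeomorph.topologicalKrullDim_eq) hd)) ?_
  exact_mod_cast Nat.lt_succ_self d

include hr in
theorem isPureDeg_pushforward [IsNoetherian X] {M : X.Modules} (hM : Coh.IsCoh M) {d : ℕ}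
    (hp : ShStab.IsPure X M d) : IsPureDeg ((Scheme.Modules.pushforward r).obj M) d := by
  intro s hs
  obtain ⟨x, rfl, hx⟩ := AssPtX.exists_weakAssPoint_of_pushforward r hM.1 s hs
  have h := deg_eq_of_isPure (X ↘ Spec (CommRingCat.of k)) hM hp hx
  rw [VarDim.deg_eq_add r (CohB1.ProjSpace.toSpec n k) hr x, VarDim.fdeg, VarDim.rdeg_preimmersion,
    map_zero, add_zero] at h
  exact h

include hr hb in
/-- The pure quotients of a fixed sheaf with bounded top coefficients have finitely many Hilbert
polynomials on the projective space. -/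
theorem exists_finite_quot [IsAlgClosed k] {F : X.Modules} (hF : Coh.IsCoh F) {d : ℕ}
    (hdim : topologicalKrullDim ↥(CohB1.support F) ≤ (d : WithBot ℕ∞)) (a c : ℕ) :
    ∃ Ps : Set (Polynomial ℚ), Ps.Finite ∧ ∀ (Q : X.Modules) (q : F ⟶ Q), Epi q → Coh.IsCoh Q →
      ShStab.IsPure X Q d → ∀ pQ : Polynomial ℚ, ShStab.IsHilbPoly k X L Q pQ →
        StabCat.alpha d pQ ≤ a → StabCat.alpha (d - 1) pQ ≤ c →
          pQ.comp (Polynomial.C (b : ℚ) * Polynomial.X) ∈ Ps := by
  haveI := CurveCohLib.isNoetherian_of_proper (k := k) (X := X)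
  have hE := QCoh.isCoh_pushforward_finite r hF
  obtain ⟨ρ, hρ⟩ := exists_isMRegular hE
  obtain ⟨Ps, hPs, h⟩ := exists_finite_polys.{u} n ρ
    (fun j => h0 ((Scheme.Modules.pushforward r).obj F) (ρ + j)) d (b ^ d * a) (b ^ (d - 1) * c)
  refine ⟨Ps, hPs, fun Q q hq hQ hp pQ hpQ ha hc => ?_⟩
  haveI := hq
  haveI : PreservesColimitsOfShape WalkingSpan (Scheme.Modules.pushforward r) :=
    KFlatLib.preservesColimitsOfShape_push r _
  have hq' : IsQuot d ρ ((Scheme.Modules.pushforward r).map q) (pQ.comp (Polynomial.C (b : ℚ) * Polynomial.X)) :=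
    ⟨inferInstance, hE, QCoh.isCoh_pushforward_finite r hQ, hρ, dimLT_pushforward r hF hdim,
      isPureDeg_pushforward r hr hQ hp, fun t => chi_pushforward_hilb r hr hb hQ hpQ t⟩
  refine h k hq' ?_ ?_ fun j => le_rfl
  · rw [StabCat.alpha, coeff_comp_C_mul_X, mul_left_comm, Nat.cast_mul, Nat.cast_pow]
    exact mul_le_mul_of_nonneg_left ha (by positivity)
  · rw [StabCat.alpha, coeff_comp_C_mul_X, mul_left_comm, Nat.cast_mul, Nat.cast_pow]
    exact mul_le_mul_of_nonneg_left hc (by positivity)

include hr hb in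
/-- A family of kernels of maps out of a fixed sheaf with finitely many quotient polynomials is bounded. -/
theorem isBounded_kernels [Infinite k] {F : X.Modules} (hF : Coh.IsCoh F) {d : ℕ}
    (hdim : topologicalKrullDim ↥(CohB1.support F) ≤ (d : WithBot ℕ∞)) {Ps : Set (Polynomial ℚ)} (hPs : Ps.Finite)
    (S : X.Modules → Prop) (hS : ∀ G, S G → Coh.IsCoh G ∧ ∃ ι : G ⟶ F, Mono ι ∧
      ∃ pQ : Polynomial ℚ, ShStab.IsHilbPoly k X L (cokernel ι) pQ ∧
        pQ.comp (Polynomial.C (b : ℚ) * Polynomial.X) ∈ Ps) :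
    Pic13.IsBounded k X S := by
  haveI := CurveCohLib.isNoetherian_of_proper (k := k) (X := X)
  have hE := QCoh.isCoh_pushforward_finite r hF
  obtain ⟨ρ, hρ⟩ := exists_isMRegular hE
  obtain ⟨pE, hpE⟩ := exists_chi_poly hE
  have hb' := fun P : Polynomial ℚ => exists_regularity_bound.{u} n (d + 1)
    ((pE - P).comp (Polynomial.X + Polynomial.C (ρ : ℚ)))
    (fun j => h0 ((Scheme.Modules.pushforward r).obj F) (ρ + j))
  choose m hm1 hm using hb'
  refine Bdd.isBounded_mono (Bdd.isBounded_exists_mem hPs.toFinset (P := fun P G => Coh.IsCoh G ∧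
    Pic13.IsMRegular k r G (m P + ρ) ∧ ∀ t : ℤ,
      (FGA.eulerCharLE k X (Pic13.twistOn k r G t) n : ℚ) = (pE - P).eval (t : ℚ))
    fun P _ => Bdd.isBounded_regular r hr (m P + ρ) (pE - P)) ?_
  intro G hG
  obtain ⟨hGc, ι, hι, pQ, hpQ, hmem⟩ := hS G hG
  refine ⟨G, ⟨_, hPs.mem_toFinset.2 hmem, hGc, ?_, ?_⟩, ⟨Iso.refl _⟩⟩
  all_goals
    haveI := hι
    haveI : PreservesColimitsOfShape WalkingSpan (Scheme.Modules.pushforward r) :=
      KFlatLib.preservesColimitsOfShape_push r _
    haveI := (Scheme.Modules.pullbackPushforwardAdjunction r).rightAdjoint_preservesLimits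
    have hSh : (ShortComplex.mk ι (cokernel.π ι) (cokernel.condition ι)).ShortExact :=
      .mk' (ShortComplex.exact_of_g_is_cokernel _ (cokernelIsCokernel ι)) inferInstance inferInstance
    haveI : (Scheme.Modules.pushforward r).PreservesZeroMorphisms := inferInstance
    have hSp : ((ShortComplex.mk ι (cokernel.π ι) (cokernel.condition ι)).map (Scheme.Modules.pushforward r)).ShortExact :=
      hSh.map_of_exact _
    have hQc : Coh.IsCoh (cokernel ι) := QCoh.isCoh_cokernel hGc.1 hF ι
    have hchi : ∀ t : ℤ, (chi (k := k) (n := n) ((Scheme.Modules.pushforward r).obj G) t : ℚ) =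
        (pE - pQ.comp (Polynomial.C (b : ℚ) * Polynomial.X)).eval (t : ℚ) := fun t => by
      have h := chi_add (k := k) (n := n) hSp (QCoh.isCoh_pushforward_finite r hGc) hE
        (QCoh.isCoh_pushforward_finite r hQc) t
      rw [Polynomial.eval_sub, ← hpE, ← chi_pushforward_hilb r hr hb hQc hpQ]
      simp only [ShortComplex.map_X₁, ShortComplex.map_X₂, ShortComplex.map_X₃] at h
      rw [h]
      push_cast
      ring
  · intro q hq
    rw [FppfPic.MReg.hh_iff k n r G hGc]
    rcases le_or_gt q n with hqn | hqn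
    swap
    · exact ProjRegular.subsingleton_HH_high (k := k) (n := n) (QCoh.isCoh_pushforward_finite r hGc) _ q hqn
    have hreg0 : Curv2.IsMRegular k n ((twF ρ).obj ((Scheme.Modules.pushforward r).obj F)) 0 := by
      intro i hi hin
      obtain ⟨e⟩ := twF_twF_iso (k := k) (n := n) ((Scheme.Modules.pushforward r).obj F) ρ (0 - (i : ℤ)) (ρ - (i : ℤ))
        (by ring)
      exact QCoh.subsingleton_HH_of_iso e.symm i (hρ i hi hin)
    have hK : Curv2.IsMRegular k n ((twF ρ).obj ((Scheme.Modules.pushforward r).obj G))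
        (m (pQ.comp (Polynomial.C (b : ℚ) * Polynomial.X))) :=
      hm _ k _ _ ((twF ρ).map ((Scheme.Modules.pushforward r).map ι)) inferInstance
        (isCoh_tw (QCoh.isCoh_pushforward_finite r hGc) _) (isCoh_tw hE _) hreg0
        (HilbPoly.dimLT_of_subset (HilbPoly.support_tensor_subset _ _) (dimLT_pushforward r hF hdim))
        (fun t => by
          rw [chi_Tw, hchi, Polynomial.eval_comp, Polynomial.eval_add, Polynomial.eval_X, Polynomial.eval_C,
            Int.cast_add, add_comm])
        (fun j => by rw [h0_Tw])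
    obtain ⟨e⟩ := twF_twF_iso (k := k) (n := n) ((Scheme.Modules.pushforward r).obj G) ρ
      (m (pQ.comp (Polynomial.C (b : ℚ) * Polynomial.X)) - (q : ℤ))
      (m (pQ.comp (Polynomial.C (b : ℚ) * Polynomial.X)) + ρ - (q : ℤ)) (by ring)
    exact QCoh.subsingleton_HH_of_iso e q (hK q hq hqn)
  · intro t
    rw [TauNum.eulerCharLE_twistOn r hGc, ← chi_pushforward r hr hGc, hchi]

end Groth.Agent.GrothLem

end
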