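import Groth.Agent.GrothLem.FamilyFibre
import Groth.Agent.HilbPoly.Sat
import Groth.Agent.QuotRep.QuotLocus
import Groth.Agent.SSKerX.BadLocus

/-!
# Openness of semistability
-/

set_option autoImplicit false
set_option linter.style.haveILetI false
set_option linter.unusedSectionVars false
set_option backward.isDefEq.respectTransparency false
set_option backward.isDefEq.respectTransparency.types false
set_option maxHeartbeats 1000000

universe u

open CategoryTheory CategoryTheory.Limits AlgebraicGeometry TopologicalSpace Opposite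

attribute [-instance] CategoryTheory.catToReflQuiver

noncomputable section

namespace Groth.Agent.GrothLem

open Groth.Agent Groth.Agent.RegEpi Groth.Agent.HilbBound Groth.Agent.PnCoh.Finite
open scoped Groth.Agent.H23.PicMul

attribute [local instance 10000] HilbBound.projOver

variable {K : Type u} [Field K] [IsAlgClosed K] {S : Scheme.{u}} (sS : S ⟶ Spec (CommRingCat.of K))
  [IsNoetherian S] [LocallyOfFiniteType sS] [IsSeparated sS] {n : ℕ} {X : Scheme.{u}}
  (i : X ⟶ CohB1.ProjSpaceOver n S) [IsClosedImmersion i]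

set_option quotPrecheck false in
local notation "π₀" => i ≫ CohB1.ProjSpaceOver.toBase n S
set_option quotPrecheck false in
local notation "O₁" => (Scheme.Modules.pullback i).obj (Twist.twistOver n S 1)

/-- Rational points of the base with a quotient of given Hilbert polynomial form a closed set. -/
theorem exists_isClosed_quot {F : X.Modules} (hF : Coh.IsCoh F) (Φ : Polynomial ℚ) :
    ∃ B : Set S, IsClosed B ∧ ∀ t : Spec (CommRingCat.of K) ⟶ S, t ≫ sS = 𝟙 _ →
      (t default ∈ B ↔ ∃ (G : (pullback π₀ t).Modules) (q : (Scheme.Modules.pullback (pullback.fst π₀ t)).obj F ⟶ G),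
        Epi q ∧ Coh.IsCoh G ∧ (∀ j : ℕ, (PerfAux.eulerChar (pullback.snd π₀ t) (CohB1.tensorMod G
          (CohB1.tensorPow ((Scheme.Modules.pullback (pullback.fst π₀ t)).obj O₁) j)) default : ℚ) = Φ.eval (j : ℚ))) := by
  haveI : IsProper π₀ := QuotRep.isProper_comp i
  obtain ⟨W, qW, _, FW, πW, hW, hqW⟩ := QuotRep.exists_univ_over (E := F) i hF Φ
  haveI := hqW
  refine ⟨qW '' Set.univ, qW.isClosedMap _ isClosed_univ, fun t ht => ⟨?_, ?_⟩⟩
  · intro hs
    have hcl : IsClosed ({t default} : Set S) := by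
      haveI : IsClosedImmersion (t ≫ sS) := by rw [ht]; infer_instance
      haveI : IsClosedImmersion t := IsClosedImmersion.of_comp t sS
      have hr : Set.range t = {t default} := Set.eq_singleton_iff_unique_mem.2
        ⟨⟨default, rfl⟩, by rintro _ ⟨y, rfl⟩; rw [Subsingleton.elim y default]⟩
      rw [← hr]
      exact t.isClosedEmbedding.isClosed_range
    haveI : JacobsonSpace W := LocallyOfFiniteType.jacobsonSpace (qW ≫ sS)
    obtain ⟨z, -, hzt⟩ := hs
    obtain ⟨w, hw, hwc⟩ := nonempty_inter_closedPoints (Z := qW ⁻¹' {t default}) ⟨z, hzt⟩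
      ((hcl.preimage qW.continuous).isLocallyClosed)
    let h : Spec (CommRingCat.of K) ⟶ W := pointOfClosedPoint (qW ≫ sS) w hwc
    have hh : h (default : Spec (CommRingCat.of K)) = w := pointOfClosedPoint_apply _ _ _ _
    have hg : h ≫ qW = t := by
      refine ext_of_apply_closedPoint_eq sS ?_ ht ?_
      · rw [Category.assoc]; exact pointOfClosedPoint_comp _ _ _
      · exact ((congrArg (fun p : Spec (CommRingCat.of K) => qW (h p)) (Subsingleton.elim _ _)).trans
          (congrArg qW hh)).trans (Eq.trans hw (congrArg t (Subsingleton.elim _ _)))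
    have hq := hW.1.pull (QuotRep.isInvertible_O1 i) h hg
    haveI : LocallyOfFiniteType (pullback.snd π₀ t) := inferInstance
    haveI : IsLocallyNoetherian (pullback π₀ t) := LocallyOfFiniteType.isLocallyNoetherian (pullback.snd π₀ t)
    exact ⟨_, _, hq.epi, QCoh.isCoh_iff_isFP.2 hq.fp, fun j => hq.poly default j⟩
  · rintro ⟨G, q, hq, hG, hpoly⟩
    haveI : LocallyOfFiniteType (pullback.snd π₀ t) := inferInstance
    haveI : IsLocallyNoetherian (pullback π₀ t) := LocallyOfFiniteType.isLocallyNoetherian (pullback.snd π₀ t)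
    have hIQ : QuotRep.IsQuot π₀ O₁ Φ t q :=
      ⟨hq, QCoh.isCoh_iff_isFP.1 hG, HilbStrat.isFlatOver_field _ G, fun t' j => by
        rw [Subsingleton.elim t' default]; exact hpoly j⟩
    obtain ⟨h, ⟨hg, -, -⟩, -⟩ := hW.2 _ t G q hIQ
    exact ⟨h default, trivial, by rw [← Scheme.Hom.comp_apply, hg]⟩

/-- The conditions on a notion of destabilising submodule. -/
structure IsDestab (d : ℕ) (Bad : Polynomial ℚ → Polynomial ℚ → Prop) : Prop where
  ne_zero : ∀ φ ψ, Bad φ ψ → StabCat.alpha d ψ ≠ 0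
  mono : ∀ φ ψ ψ', 0 < StabCat.alpha d φ → 0 < StabCat.alpha d ψ → StabCat.alpha d ψ' = StabCat.alpha d ψ →
    StabCat.PolyLE ψ ψ' → φ.natDegree ≤ d → ψ.natDegree ≤ d → ψ'.natDegree ≤ d → Bad φ ψ → Bad φ ψ'
  slope : ∀ φ ψ, 0 < StabCat.alpha d φ → 0 < StabCat.alpha d ψ → StabCat.alpha d ψ ≤ StabCat.alpha d φ →
    φ.natDegree ≤ d → ψ.natDegree ≤ d → Bad φ ψ → StabCat.hatSlope d φ ≤ StabCat.hatSlope d ψ

variable {sS}

/-- The locus without destabilising submodules is open. -/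
theorem exists_open_of_destab {d : ℕ} {Bad : Polynomial ℚ → Polynomial ℚ → Prop} (hBad : IsDestab d Bad)
    {F : X.Modules} (hF : Coh.IsCoh F) (hflat : FlatMod.IsFlatOver π₀ F)
    (hpure : ∀ t : Spec (CommRingCat.of K) ⟶ S, t ≫ sS = 𝟙 _ →
      topologicalKrullDim ↥(CohB1.support ((Scheme.Modules.pullback (pullback.fst π₀ t)).obj F)) = (d : WithBot ℕ∞) ∧
        ShStab.IsPure (pullback π₀ t) ((Scheme.Modules.pullback (pullback.fst π₀ t)).obj F) d) :
    ∃ U : S.Opens, ∀ t : Spec (CommRingCat.of K) ⟶ S, t ≫ sS = 𝟙 _ →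
      letI : (pullback π₀ t).Over (Spec (CommRingCat.of K)) := ⟨pullback.snd π₀ t⟩
      ((∀ (G : (pullback π₀ t).Modules) (ι : G ⟶ (Scheme.Modules.pullback (pullback.fst π₀ t)).obj F),
          Mono ι → Coh.IsCoh G → ¬ IsZero G → ∀ φ ψ : Polynomial ℚ,
          ShStab.IsHilbPoly K (pullback π₀ t) ((Scheme.Modules.pullback (pullback.fst π₀ t)).obj O₁)
            ((Scheme.Modules.pullback (pullback.fst π₀ t)).obj F) φ →
          ShStab.IsHilbPoly K (pullback π₀ t) ((Scheme.Modules.pullback (pullback.fst π₀ t)).obj O₁) G ψ →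
          ¬ Bad φ ψ) ↔ Set.range t.base ⊆ (U : Set S)) := by
  classical
  haveI : IsProper π₀ := QuotRep.isProper_comp i
  haveI : LocallyOfFinitePresentation π₀ := QuotRep.lfp_comp i
  haveI : IsLocallyNoetherian X := LocallyOfFiniteType.isLocallyNoetherian π₀
  obtain ⟨ρ, hρ⟩ := exists_uniform_reg i hF
  obtain ⟨Fs, hFs, hmemF⟩ := exists_finite_fibre_polys i hF hflat d
  obtain ⟨β, hβ⟩ : ∃ β : ℕ → ℕ, ∀ φ ∈ Fs, ∀ j : ℕ, φ.eval (((ρ : ℤ) + j : ℤ) : ℚ) ≤ β j := by
    have : ∀ j : ℕ, ∃ N : ℕ, ∀ φ ∈ Fs, φ.eval (((ρ : ℤ) + j : ℤ) : ℚ) ≤ N := fun j => by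
      obtain ⟨c, hc⟩ := (hFs.image fun φ : Polynomial ℚ => φ.eval (((ρ : ℤ) + j : ℤ) : ℚ)).bddAbove
      obtain ⟨N, hN⟩ := exists_nat_ge c
      exact ⟨N, fun φ hφ => (hc ⟨φ, hφ, rfl⟩).trans hN⟩
    choose β hβ using this
    exact ⟨β, fun φ hφ j => hβ j φ hφ⟩
  obtain ⟨A, hA⟩ : ∃ A : ℕ, ∀ φ ∈ Fs, StabCat.alpha d φ ≤ A := by
    obtain ⟨c, hc⟩ := (hFs.image fun φ : Polynomial ℚ => StabCat.alpha d φ).bddAbove
    obtain ⟨N, hN⟩ := exists_nat_ge c
    exact ⟨N, fun φ hφ => (hc ⟨φ, hφ, rfl⟩).trans hN⟩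
  obtain ⟨C, hC⟩ : ∃ C : ℕ, ∀ φ ∈ Fs,
      StabCat.alpha (d - 1) φ + |StabCat.hatSlope d φ| * StabCat.alpha d φ ≤ C := by
    obtain ⟨c, hc⟩ := (hFs.image fun φ : Polynomial ℚ =>
      StabCat.alpha (d - 1) φ + |StabCat.hatSlope d φ| * StabCat.alpha d φ).bddAbove
    obtain ⟨N, hN⟩ := exists_nat_ge c
    exact ⟨N, fun φ hφ => (hc ⟨φ, hφ, rfl⟩).trans hN⟩
  obtain ⟨Qs, hQs, hmemQ⟩ := exists_finite_polys.{u} n (ρ : ℤ) β d A C
  choose B hBc hB using fun Φ => exists_isClosed_quot sS i hF Φ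
  let Loc : Polynomial ℚ → Set S := fun φ => ⋂ j : ℕ, {s : S |
    (PerfAux.eulerChar π₀ (CohB1.tensorMod F (CohB1.tensorPow O₁ j)) s : ℚ) = φ.eval (j : ℚ)}
  have hLoc : ∀ φ, IsClosed (Loc φ) := fun φ => isClosed_iInter fun j => by
    have hinv := InvX.isInvertible_tensorPow (QuotRep.isInvertible_O1 i) j
    exact ((PBC.isLocallyConstant_eulerChar π₀ _ (HilbSnap.isFP_tensor_invertible (QCoh.isCoh_iff_isFP.1 hF) hinv)
      (TwistFlat.isFlatOver_tensor π₀ hinv hflat)).comp fun z : ℤ => (z : ℚ)).isClosed_fiber _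
  let T : Set (Polynomial ℚ × Polynomial ℚ) := {p | p.1 ∈ Fs ∧ p.2 ∈ Qs ∧ Bad p.1 (p.1 - p.2)}
  have hT : T.Finite := (hFs.prod hQs).subset fun p hp => ⟨hp.1, hp.2.1⟩
  refine ⟨⟨(⋃ p ∈ T, Loc p.1 ∩ B p.2)ᶜ,
    (hT.isClosed_biUnion fun p _ => (hLoc p.1).inter (hBc p.2)).isOpen_compl⟩, fun t ht => ?_⟩
  obtain ⟨hdimF, hpureF⟩ := hpure t ht
  let P := pullback π₀ t
  haveI : IsProper (P ↘ Spec (CommRingCat.of K)) := inferInstanceAs (IsProper (pullback.snd π₀ t))
  haveI : IsLocallyNoetherian P := LocallyOfFiniteType.isLocallyNoetherian (P ↘ Spec (CommRingCat.of K))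
  haveI : IsNoetherian P := CurveCohLib.isNoetherian_of_proper (k := K)
  let Ft := (Scheme.Modules.pullback (pullback.fst π₀ t)).obj F
  let Lt := (Scheme.Modules.pullback (pullback.fst π₀ t)).obj O₁
  have hFt : Coh.IsCoh Ft := ZClosLib.isCoh_pullback _ hF
  have hLti : PicF.IsInvertible Lt := PicClLib.isInvertible_pullback _ (QuotRep.isInvertible_O1 i)
  have hL : CohB1.IsAmple Lt := (AmpleX.isRelAmple_iff_isAmple (pullback.snd π₀ t) _).1
    (AmpleX.isRelAmple_baseChange π₀ t (QuotRep.isRelAmple_O1 i))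
  obtain ⟨φ, hφ, hφdeg, -⟩ := HilbPoly.exists_hilb (k := K) hL.1 hFt hdimF.le
  have hφF : φ ∈ Fs := hmemF K t φ hφdeg hφ
  have heuler : ∀ {G : P.Modules}, Coh.IsQCoh G → ∀ j : ℕ,
      PerfAux.eulerChar (pullback.snd π₀ t) (CohB1.tensorMod G (CohB1.tensorPow Lt j)) default =
        Curv2.euler K P (CohB1.tensorMod G (CohB1.tensorPow Lt j)) := fun hG j =>
    QuotRep.eulerChar_field (pullback.snd π₀ t)
      (CohBasic.isQCoh_tensorMod hG (ProjUPX.isQCoh_of_isInvertible (InvX.isInvertible_tensorPow hLti j))) _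
  have hloc : ∀ φ', t default ∈ Loc φ' → φ' = φ := fun φ' h => HilbPoly.poly_ext 0 fun j _ => by
    have h1 : PerfAux.eulerChar (pullback.snd π₀ t) (CohB1.tensorMod Ft (CohB1.tensorPow Lt j)) default =
        PerfAux.eulerChar π₀ (CohB1.tensorMod F (CohB1.tensorPow O₁ j)) (t default) :=
      finsum_congr fun q => by
        rw [PBC.betti_eq_fiberRank, PBC.betti_eq_fiberRank,
          HilbSnap.fiberRank_twist_bc (IsPullback.of_hasPullback π₀ t) hF.1 (QuotRep.isInvertible_O1 i)]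
    rw [← Set.mem_iInter.1 h j, ← h1, heuler hFt.1]
    exact hφ j
  have hlocφ : t default ∈ Loc φ := Set.mem_iInter.2 fun j => by
    have h1 : PerfAux.eulerChar (pullback.snd π₀ t) (CohB1.tensorMod Ft (CohB1.tensorPow Lt j)) default =
        PerfAux.eulerChar π₀ (CohB1.tensorMod F (CohB1.tensorPow O₁ j)) (t default) :=
      finsum_congr fun q => by
        rw [PBC.betti_eq_fiberRank, PBC.betti_eq_fiberRank,
          HilbSnap.fiberRank_twist_bc (IsPullback.of_hasPullback π₀ t) hF.1 (QuotRep.isInvertible_O1 i)]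
    show _ = _
    rw [← h1, heuler hFt.1]
    exact hφ j
  have hφpos := HilbPoly.alpha_pos (k := K) hL hFt hdimF hφ
  have hrange : Set.range t.base = {t default} := Set.eq_singleton_iff_unique_mem.2
    ⟨⟨default, rfl⟩, by rintro _ ⟨y, rfl⟩; rw [Subsingleton.elim y default]⟩
  rw [hrange, Set.singleton_subset_iff]
  constructor
  · intro hss hmem
    obtain ⟨⟨φ', Φ⟩, ⟨-, -, hbad⟩, hl, hb⟩ := Set.mem_iUnion₂.1 hmem
    dsimp only at hbad hl hb
    obtain rfl := hloc φ' hl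
    obtain ⟨G, q, hq, hG, hpoly⟩ := (hB Φ t ht).1 hb
    haveI := hq
    have hpG : ShStab.IsHilbPoly K P Lt G Φ := fun j => by
      rw [← hpoly j, heuler hG.1]
      rfl
    obtain ⟨hKc, hdK, hpK⟩ := HilbPoly.kernel_data (k := K) hL hFt hG hdimF.le q hφ hpG
    refine hss (kernel q) (kernel.ι q) inferInstance hKc (fun hz => hBad.ne_zero _ _ hbad ?_) φ' _ hφ hpK hbad
    rw [HilbPoly.isHilbPoly_unique hpK (HilbPoly.hilb_isZero hz)]
    simp [StabCat.alpha]
  · intro hU G ι hι hG hG0 φ₁ ψ hφ₁ hψ hbad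
    refine hU ?_
    obtain rfl : φ₁ = φ := HilbPoly.isHilbPoly_unique hφ₁ hφ
    haveI := hι
    have hdG := hpureF G ι hι hG hG0
    have hψpos := HilbPoly.alpha_pos (k := K) hL hG hdG hψ
    have hψdeg := (HilbPoly.hilb_props (k := K) hL.1 hG hdG.le hψ).1
    obtain ⟨G', ι', l, hι', -, hG', hQpure, hsat⟩ :=
      HilbPoly.exists_saturation (k := K) hL hFt hdimF.le ι hG hψ
    haveI := hι'
    have hdG' := HilbPoly.dim_mono hG' hFt ι' hdimF.le
    obtain ⟨ψ', hψ', hψ'deg, -⟩ := HilbPoly.exists_hilb (k := K) hL.1 hG' hdG'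
    obtain ⟨hα', hle', -⟩ := hsat ψ' hψ'
    have hbad' := hBad.mono _ _ _ hφpos hψpos hα' hle' hφdeg hψdeg hψ'deg hbad
    obtain ⟨hQc, hdQ, hpQ⟩ := HilbPoly.cokernel_data (k := K) hL hG' hFt hdimF.le ι' hψ' hφ
    have hsub : ∀ j, StabCat.alpha j (φ₁ - ψ') = StabCat.alpha j φ₁ - StabCat.alpha j ψ' := fun j => by
      simp only [StabCat.alpha, Polynomial.coeff_sub]; ring
    have hQnn := HilbPoly.alpha_nonneg (k := K) hL hQc hdQ hpQ
    rw [hsub] at hQnn
    have hψ'pos : 0 < StabCat.alpha d ψ' := by rw [hα']; exact hψpos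
    have hsl := hBad.slope _ _ hφpos hψ'pos (by linarith) hφdeg hψ'deg hbad'
    obtain ⟨r, hrc, hr, hrtw⟩ := exists_fibre_embedding i t
    haveI := hrc
    obtain ⟨e1⟩ : Nonempty ((Scheme.Modules.pullback r).obj (Twist.twistProjSpace n K 1) ≅ CohB1.tensorPow Lt 1) :=
      H23.PicMul.cl_eq_iff.1 (by rw [H23.PicMul.cl_tensorPow, pow_one]; exact H23.PicMul.cl_eq_iff.2 (hrtw 1))
    haveI : PreservesColimitsOfShape WalkingSpan (Scheme.Modules.pushforward r) :=
      KFlatLib.preservesColimitsOfShape_push r _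
    have hcomp : ∀ p : Polynomial ℚ, p.comp (Polynomial.C ((1 : ℕ) : ℚ) * Polynomial.X) = p := fun p => by
      rw [Nat.cast_one, Polynomial.C_1, one_mul, Polynomial.comp_X]
    have hreg := hρ K t r hr (hrtw 1)
    have hq : IsQuot d (ρ : ℤ) ((Scheme.Modules.pushforward r).map (cokernel.π ι')) (φ₁ - ψ') :=
      ⟨inferInstance, QCoh.isCoh_pushforward_finite r hFt, QCoh.isCoh_pushforward_finite r hQc, hreg,
        dimLT_pushforward r hFt hdimF.le, isPureDeg_pushforward r hr hQc hQpure, fun s => by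
          rw [chi_pushforward_hilb r hr ⟨e1⟩ hQc hpQ, hcomp]⟩
    have hmem : φ₁ - ψ' ∈ Qs := by
      refine hmemQ K hq ?_ ?_ fun j => ?_
      · rw [hsub]; linarith [hA _ hφF]
      · rw [hsub]
        have h1 := hC _ hφF
        rw [StabCat.hatSlope, StabCat.hatSlope, le_div_iff₀ hψ'pos] at hsl
        rw [StabCat.hatSlope] at h1
        nlinarith [neg_abs_le (StabCat.alpha (d - 1) φ₁ / StabCat.alpha d φ₁),
          mul_nonneg (abs_nonneg (StabCat.alpha (d - 1) φ₁ / StabCat.alpha d φ₁)) hQnn]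
      · have h1 : (h0 ((Scheme.Modules.pushforward r).obj Ft) ((ρ : ℤ) + j) : ℤ) =
            chi (k := K) (n := n) ((Scheme.Modules.pushforward r).obj Ft) ((ρ : ℤ) + j) := by
          rw [chi_eq]
          exact (euler_eq_single fun q hq =>
            subsingleton_of_regular (QCoh.isCoh_pushforward_finite r hFt) hreg hq (by omega)).symm
        have h2 := hβ _ hφF j
        rw [← hcomp φ₁, ← chi_pushforward_hilb r hr ⟨e1⟩ hFt hφ, ← h1, Int.cast_natCast] at h2
        exact_mod_cast h2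
    refine Set.mem_iUnion₂.2 ⟨(φ₁, φ₁ - ψ'), ⟨hφF, hmem, ?_⟩, hlocφ,
      (hB _ t ht).2 ⟨_, cokernel.π ι', inferInstance, hQc, fun j => ?_⟩⟩
    · show Bad φ₁ (φ₁ - (φ₁ - ψ'))
      rwa [sub_sub_cancel]
    · rw [heuler hQc.1]
      exact hpQ j

end Groth.Agent.GrothLem

end
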