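import Groth.Agent.GrothLem.BadPts
import Groth.Agent.HilbBound.SlopeBound
import Groth.Agent.AmpleX.FiniteSet
import Groth.Agent.AmpleNeg.Basic
import Groth.Agent.H23.InvStalk
import Groth.Agent.VarDim.Scheme
import Groth.Agent.VarDim.Top
import Groth.Agent.VarDim.Local

/-!
# Hyperplane sections of pure sheaves

A hyperplane avoiding a finite set of points cuts a pure sheaf of dimension `d + 1` in a pure sheaf of
dimension `d`.
-/

set_option autoImplicit false
set_option linter.style.haveILetI false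
set_option linter.unusedSectionVars false
set_option backward.isDefEq.respectTransparency false
set_option backward.isDefEq.respectTransparency.types false
set_option maxHeartbeats 1000000

universe u

open CategoryTheory CategoryTheory.Limits AlgebraicGeometry TopologicalSpace Opposite MonoidalCategory
open scoped TensorProduct ZeroObject

noncomputable section

namespace Groth.Agent.GrothLem

open Groth.Agent

section Stalk

variable {X : Scheme.{u}}

local notation "Φ" => DerSch.stalkFunctor X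

/-- Multiplication by a section on a stalk: the cokernel is the quotient by one non-unit. -/
theorem exists_stalk_mul {M N : X.Modules} (hN : PicF.IsInvertible N) (s : Coh.structureModule X ⟶ N) {y : X}
    (hy : y ∉ CohB1.genLocus N s) (hm : Mono (HilbPoly.mulHom s M)) :
    ∃ g ∈ IsLocalRing.maximalIdeal (X.presheaf.stalk y),
      (∀ m : ((Φ y).obj M : Type u), g • m = 0 → m = 0) ∧
      ∀ c₀ : ((Φ y).obj (cokernel (HilbPoly.mulHom s M)) : Type u), ∃ m : ((Φ y).obj M : Type u),
        ∀ c : X.presheaf.stalk y, c • c₀ = 0 ↔ ∃ w : ((Φ y).obj M : Type u), c • m = g • w := by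
  obtain ⟨eN⟩ := H23.InvStalk.exists_stalk_equiv hN y
  obtain ⟨eO⟩ := H23.InvStalk.exists_stalk_equiv (H23.InvStalk.isInvertible_structureModule (X := X)) y
  let 𝔪 := IsLocalRing.maximalIdeal (X.presheaf.stalk y)
  have hs : ∀ p, (Φ y).map s p ∈ 𝔪 • (⊤ : Submodule (X.presheaf.stalk y) ((Φ y).obj N)) := by
    intro p
    obtain ⟨W, hyW, e, he⟩ := InvX.exists_frame hN y
    obtain ⟨g, hg⟩ := he.exists_coord le_rfl (AModX.res N (le_top : W ≤ ⊤) (InvX.one s))
    rw [AModX.res_self] at hg
    have hgm : X.presheaf.germ W y hyW g ∈ 𝔪 :=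
      (IsLocalRing.mem_maximalIdeal _).2 fun hu => hy ((AmpleX.mem_genLocus_iff s he hg hyW).2 hu)
    obtain ⟨V, hyV, r, rfl⟩ := (Coh.structureModule X).presheaf.germ_exist p
    let W' := V ⊓ W
    have hyW' : y ∈ W' := ⟨hyV, hyW⟩
    rw [← (Coh.structureModule X).presheaf.germ_res_apply (homOfLE (inf_le_left : W' ≤ V)) y hyW' r]
    generalize (Coh.structureModule X).presheaf.map (homOfLE (inf_le_left : W' ≤ V)).op r = r'
    erw [DerSch.stalkFunctor_map_germ, InvX.app_eq_smul s (show Γ(X, W') from r')]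
    have h2 : AModX.res N (le_top : W' ≤ ⊤) (InvX.one s) =
        X.presheaf.map (homOfLE (inf_le_right : W' ≤ W)).op g • AModX.res N (inf_le_right : W' ≤ W) e := by
      have h3 := congrArg (AModX.res N (inf_le_right : W' ≤ W)) hg
      rw [AModX.res_res, AModX.res_smul] at h3
      exact h3
    rw [h2]
    erw [PresheafOfModules.germ_smul, PresheafOfModules.germ_smul]
    refine Submodule.smul_mem _ _ (Submodule.smul_mem_smul ?_ Submodule.mem_top)
    erw [X.presheaf.germ_res_apply]
    exact hgm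
  let g : X.presheaf.stalk y := eN ((Φ y).map s (eO.symm 1))
  have hg : g ∈ 𝔪 := by
    have h1 : g ∈ (𝔪 • (⊤ : Submodule (X.presheaf.stalk y) ((Φ y).obj N))).map eN.toLinearMap :=
      Submodule.mem_map_of_mem (f := eN.toLinearMap) (hs _)
    rw [Submodule.map_smul''] at h1
    exact (Submodule.smul_le.2 fun r hr n _ => Ideal.mul_mem_right n _ hr) h1
  let E := (KFlatLib.stalkTensorLeftIso M y)
  let R := X.presheaf.stalk y
  let My : Type u := ((Φ y).obj M : Type u)
  let rN : (((Φ y).obj M ⊗ (Φ y).obj N : ModuleCat R) : Type u) ≃ₗ[R] My :=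
    (TensorProduct.congr (LinearEquiv.refl R My) eN).trans (TensorProduct.rid R My)
  let rO : (((Φ y).obj M ⊗ (Φ y).obj (Coh.structureModule X) : ModuleCat R) : Type u) ≃ₗ[R] My :=
    (TensorProduct.congr (LinearEquiv.refl R My) eO).trans (TensorProduct.rid R My)
  let γ : My ≃ₗ[R] My := (((Φ y).mapIso (AmpleVan.twUnit.app M)).toLinearEquiv.symm.trans
    (E.app (Coh.structureModule X)).toLinearEquiv).trans rO
  let eP : ((Φ y).obj (CohB1.tensorMod M N) : Type u) ≃ₗ[R] My := (E.app N).toLinearEquiv.trans rN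
  have hcore : ∀ z, rN (((Φ y).obj M ◁ (Φ y).map s) z) = g • rO z := by
    intro z
    induction z using TensorProduct.induction_on with
    | zero => rw [map_zero, map_zero, map_zero, smul_zero]
    | tmul m r =>
      show eN ((Φ y).map s r) • m = g • (eO r • m)
      rw [smul_smul]
      congr 1
      have hr : r = eO r • eO.symm 1 := eO.injective (by
        rw [map_smul, LinearEquiv.apply_symm_apply, smul_eq_mul, mul_one])
      conv_lhs => rw [hr]
      rw [map_smul, map_smul, smul_eq_mul, mul_comm]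
    | add a b ha hb => rw [map_add, map_add, ha, hb, map_add, smul_add]
  have hF : ∀ m : My, eP ((Φ y).map (HilbPoly.mulHom s M) m) = g • γ m := by
    intro m
    rw [HilbPoly.mulHom, Functor.map_comp]
    have hnat := ConcreteCategory.congr_hom (E.hom.naturality s)
      ((Φ y).map (AmpleVan.twUnit.inv.app M) m)
    show rN (E.hom.app N ((Φ y).map ((DCoh.tensorBi.obj M).map s) ((Φ y).map (AmpleVan.twUnit.inv.app M) m))) = _
    refine (congrArg rN hnat).trans ?_
    exact hcore _
  refine ⟨g, hg, fun m hm0 => ?_, fun c₀ => ?_⟩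
  · haveI := hm
    have hinj : Function.Injective ((Φ y).map (HilbPoly.mulHom s M)) := by
      have hex := (KFlatLib.exact_iff_stalk _).1
        ((ShortComplex.exact_iff_mono (ShortComplex.mk (0 : (0 : X.Modules) ⟶ M) (HilbPoly.mulHom s M) zero_comp)
          rfl).2 hm) y
      refine (injective_iff_map_eq_zero _).2 fun x hx => ?_
      obtain ⟨w, hw⟩ := (ShortComplex.moduleCat_exact_iff _).1 hex x hx
      rw [← hw]
      show (Φ y).map (0 : (0 : X.Modules) ⟶ M) w = 0
      rw [(Φ y).map_zero]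
      rfl
    have h1 : (Φ y).map (HilbPoly.mulHom s M) (γ.symm m) = 0 := eP.injective (by
      rw [hF, LinearEquiv.apply_symm_apply, hm0, map_zero])
    rw [← γ.apply_symm_apply m, hinj (h1.trans (map_zero _).symm), map_zero]
  · have hS : (ShortComplex.mk (HilbPoly.mulHom s M) (cokernel.π (HilbPoly.mulHom s M))
        (cokernel.condition _)).Exact :=
      ShortComplex.exact_of_g_is_cokernel _ (cokernelIsCokernel _)
    have hex := (KFlatLib.exact_iff_stalk _).1 hS y
    have hsurj : Function.Surjective ((Φ y).map (cokernel.π (HilbPoly.mulHom s M))) :=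
      (ModuleCat.epi_iff_surjective _).1 inferInstance
    obtain ⟨p, rfl⟩ := hsurj c₀
    refine ⟨eP p, fun c => ⟨fun h => ?_, ?_⟩⟩
    · obtain ⟨w, hw⟩ := (ShortComplex.moduleCat_exact_iff _).1 hex (c • p) ((map_smul _ c p).trans h)
      exact ⟨γ w, by rw [← map_smul, ← hw]; exact hF w⟩
    · rintro ⟨w, hw⟩
      have h1 : (Φ y).map (HilbPoly.mulHom s M) (γ.symm w) = c • p := eP.injective (by
        rw [hF, LinearEquiv.apply_symm_apply, map_smul, hw])
      rw [← map_smul, ← h1]
      exact ConcreteCategory.congr_hom (((ShortComplex.mk _ _ (cokernel.condition (HilbPoly.mulHom s M))).map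
        (Φ y)).zero) _

variable {k : Type u} [Field k]

/-- On an affine open only finitely many points of small dimension become associated points. -/
theorem exists_bad_affine (p : X ⟶ Spec (CommRingCat.of k)) [LocallyOfFiniteType p] {M : X.Modules}
    (hM : Coh.IsCoh M) {d : ℕ} (hpure : ∀ x, Curv2.IsWeakAssPoint M x → VarDim.deg p x = d)
    {U : X.Opens} (hU : IsAffineOpen U) :
    ∃ S : Set X, S.Finite ∧ ∀ {N : X.Modules}, PicF.IsInvertible N → ∀ (s : Coh.structureModule X ⟶ N),
      Mono (HilbPoly.mulHom s M) → ∀ y ∈ U, y ∉ CohB1.genLocus N s →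
      Curv2.IsWeakAssPoint (cokernel (HilbPoly.mulHom s M)) y → VarDim.deg p y + 2 ≤ d → y ∈ S := by
  haveI := LocallyOfFiniteType.isLocallyNoetherian p
  obtain ⟨_, hft⟩ := VarDim.exists_algebra p hU
  haveI : IsNoetherianRing Γ(X, U) := Algebra.FiniteType.isNoetherianRing k _
  haveI := QCoh.finite_sections hM hU
  have hbad := finite_bad (k := k) (B := Γ(X, U)) (M := Γ(M, U)) d fun P hP => by
    obtain ⟨y, hy, hyP, hya⟩ := AssPtX.exists_isWeakAssPoint hM.1 hU (p := P.asIdeal) (by
      obtain ⟨hpr, m, hm⟩ := isAssociatedPrime_iff.1 hP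
      refine WeakAss.mem_weakAss_iff.2 ⟨m, ?_⟩
      rw [← AssPtX.colon_bot_singleton, ← hm, Ideal.minimalPrimes_eq_subsingleton_self, Set.mem_singleton_iff])
    rw [← show hU.primeIdealOf ⟨y, hy⟩ = P from PrimeSpectrum.ext hyP, VarDim.deg_eq_coheight p hU,
      hU.fromSpec_primeIdealOf, hpure y hya]
  refine ⟨_, hbad.image hU.fromSpec, ?_⟩
  intro N hN s hm y hyU hys hya hdeg
  refine ⟨hU.primeIdealOf ⟨y, hyU⟩, ⟨?_, ?_⟩, hU.fromSpec_primeIdealOf ⟨y, hyU⟩⟩
  · rw [VarDim.deg_eq_coheight p hU, hU.fromSpec_primeIdealOf]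
    exact_mod_cast hdeg
  obtain ⟨g, hg, hreg, hc⟩ := exists_stalk_mul hN s hys hm
  obtain ⟨hmax, c₀, hc₀⟩ := isAssociatedPrime_iff.1
    (AssPtX.weakAss_subset_associatedPrimes (AssPtX.isWeakAssPoint_iff.1 hya))
  obtain ⟨m, hmc⟩ := hc c₀
  letI := QCoh.stalkAlg (X := X) hyU
  letI := QCoh.stalkModule M hyU
  haveI := QCoh.isScalarTower_stalk M hyU
  haveI := QCoh.isLocalization_stalk' hU hyU
  haveI := QCoh.isLocalizedModule_germLin hM.1 hU hyU
  set q := (hU.primeIdealOf ⟨y, hyU⟩).asIdeal with hq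
  obtain ⟨⟨a, t⟩, ha⟩ := IsLocalization.surj q.primeCompl g
  obtain ⟨⟨v, t₀⟩, hv⟩ := IsLocalizedModule.surj q.primeCompl (QCoh.germLin M hyU) m
  have ht : IsUnit (algebraMap Γ(X, U) (X.presheaf.stalk y) t) := IsLocalization.map_units _ t
  have ht₀ : IsUnit (algebraMap Γ(X, U) (X.presheaf.stalk y) t₀) := IsLocalization.map_units _ t₀
  have hv' : algebraMap Γ(X, U) (X.presheaf.stalk y) t₀ • m = QCoh.germLin M hyU v := hv
  refine ⟨a, fun x hx => ?_, v, fun c => ?_⟩
  · have h1 : algebraMap Γ(X, U) (X.presheaf.stalk y) a • QCoh.germLin M hyU x = 0 := by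
      rw [algebraMap_smul, ← map_smul, hx, map_zero]
    rw [← ha, mul_comm, mul_smul] at h1
    have h2 : QCoh.germLin M hyU x = QCoh.germLin M hyU 0 := by
      rw [map_zero]
      exact hreg _ (ht.smul_eq_zero.1 h1)
    obtain ⟨e, he⟩ := (IsLocalizedModule.eq_iff_exists q.primeCompl (QCoh.germLin M hyU)).1 h2
    exact ⟨e, e.2, by rw [← Submonoid.smul_def, he, smul_zero]⟩
  · have hcq : c ∈ q ↔ algebraMap Γ(X, U) (X.presheaf.stalk y) c • c₀ = 0 := by
      have h := IsLocalization.AtPrime.to_map_mem_maximal_iff (X.presheaf.stalk y) q c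
      rw [← h, hc₀, Submodule.mem_colon_singleton, Submodule.mem_bot]
    rw [hcq, hmc]
    constructor
    · rintro ⟨w, hw⟩
      obtain ⟨⟨w₀, t₁⟩, hw₀⟩ := IsLocalizedModule.surj q.primeCompl (QCoh.germLin M hyU) w
      have hw₀' : algebraMap Γ(X, U) (X.presheaf.stalk y) t₁ • w = QCoh.germLin M hyU w₀ := hw₀
      -- `t * t₁ * c * v` and `a * t₀ * w₀` have equal germs
      have h2 : QCoh.germLin M hyU (((t : Γ(X, U)) * t₁ * c) • v) = QCoh.germLin M hyU ((a * t₀) • w₀) := by
        rw [map_smul, map_smul, ← algebraMap_smul (X.presheaf.stalk y), ← algebraMap_smul (X.presheaf.stalk y)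
          (a * (t₀ : Γ(X, U))), ← hv', ← hw₀', map_mul, map_mul, map_mul, smul_smul, smul_smul,
          show algebraMap _ (X.presheaf.stalk y) (t : Γ(X, U)) * algebraMap _ _ (t₁ : Γ(X, U)) * algebraMap _ _ c *
              algebraMap _ _ (t₀ : Γ(X, U)) =
            (algebraMap _ _ (t : Γ(X, U)) * algebraMap _ _ (t₁ : Γ(X, U)) * algebraMap _ _ (t₀ : Γ(X, U))) *
              algebraMap _ _ c by ring,
          mul_smul, hw, smul_smul, ← ha]
        congr 1
        ring
      obtain ⟨e, he⟩ := (IsLocalizedModule.eq_iff_exists q.primeCompl (QCoh.germLin M hyU)).1 h2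
      rw [Submonoid.smul_def, Submonoid.smul_def, smul_smul, smul_smul] at he
      refine ⟨e * t * t₁, (q.primeCompl.mul_mem (q.primeCompl.mul_mem e.2 t.2) t₁.2 :), (e * t₀) • w₀, ?_⟩
      rw [show (e : Γ(X, U)) * t * t₁ * c = e * (t * t₁ * c) by ring]
      refine he.trans (Eq.trans ?_ (mul_smul a ((e : Γ(X, U)) * t₀) w₀))
      rw [show a * ((e : Γ(X, U)) * t₀) = e * (a * t₀) by ring]
    · rintro ⟨t', ht', w', hw'⟩
      have hu : IsUnit (algebraMap Γ(X, U) (X.presheaf.stalk y) t') := IsLocalization.map_units _ (⟨t', ht'⟩ : q.primeCompl)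
      have h2 := congrArg (QCoh.germLin M hyU) hw'
      rw [map_smul, map_smul, ← algebraMap_smul (X.presheaf.stalk y), ← algebraMap_smul (X.presheaf.stalk y) a,
        ← hv', ← ha, map_mul, smul_smul] at h2
      refine ⟨((hu.unit⁻¹.val * ht₀.unit⁻¹.val) * algebraMap _ _ (t : Γ(X, U))) • QCoh.germLin M hyU w', ?_⟩
      have h3 := congrArg ((hu.unit⁻¹.val * ht₀.unit⁻¹.val) • ·) h2
      dsimp only at h3
      rw [smul_smul, smul_smul] at h3
      refine Eq.trans ?_ (h3.trans (Eq.trans ?_ (mul_smul g _ _)))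
      · congr 1
        calc algebraMap _ _ c = algebraMap _ (X.presheaf.stalk y) c * (hu.unit⁻¹.val * algebraMap _ _ t') *
              (ht₀.unit⁻¹.val * algebraMap _ _ (t₀ : Γ(X, U))) := by
              rw [IsUnit.val_inv_mul, IsUnit.val_inv_mul, mul_one, mul_one]
          _ = _ := by ring
      · congr 1
        ring

/-- On a quasi-compact scheme only finitely many points of small dimension become associated points. -/
theorem exists_bad [CompactSpace X] (p : X ⟶ Spec (CommRingCat.of k)) [LocallyOfFiniteType p] {M : X.Modules}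
    (hM : Coh.IsCoh M) {d : ℕ} (hpure : ∀ x, Curv2.IsWeakAssPoint M x → VarDim.deg p x = d) :
    ∃ S : Set X, S.Finite ∧ ∀ {N : X.Modules}, PicF.IsInvertible N → ∀ (s : Coh.structureModule X ⟶ N),
      Mono (HilbPoly.mulHom s M) → ∀ y, y ∉ CohB1.genLocus N s →
      Curv2.IsWeakAssPoint (cokernel (HilbPoly.mulHom s M)) y → VarDim.deg p y + 2 ≤ d → y ∈ S := by
  choose V hV hxV _ using fun z : X => exists_isAffineOpen_mem_and_subset (x := z) (U := ⊤) trivial
  obtain ⟨T, hT⟩ := isCompact_univ.elim_finite_subcover (fun z : X => (V z : Set X)) (fun z => (V z).2)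
    (fun z _ => Set.mem_iUnion.2 ⟨z, hxV z⟩)
  choose S hS hbad using fun z : X => exists_bad_affine p hM hpure (hV z)
  refine ⟨⋃ z ∈ (T : Set X), S z, T.finite_toSet.biUnion fun z _ => hS z, ?_⟩
  intro N hN s hm y hys hya hdeg
  obtain ⟨z, hz, hyz⟩ := Set.mem_iUnion₂.1 (hT (Set.mem_univ y))
  exact Set.mem_iUnion₂.2 ⟨z, hz, hbad z hN s hm y hyz hys hya hdeg⟩

end Stalk

open Groth.Agent.RegEpi Groth.Agent.HilbBound

variable {k : Type u} [Field k] {n : ℕ}

local notation "PP" => Proj (CohB1.polyGrading n k)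

attribute [local instance 10000] HilbBound.projOver

/-- All associated points have closures of dimension `d`. -/
def IsPureDeg (M : (Proj (CohB1.polyGrading n k)).Modules) (d : ℕ) : Prop :=
  ∀ x, Curv2.IsWeakAssPoint M x → VarDim.deg (PP ↘ Spec (CommRingCat.of k)) x = d

theorem deg_le_of_dimLT {M : (Proj (CohB1.polyGrading n k)).Modules} (hM : Coh.IsCoh M) {d : ℕ}
    (hd : HilbPoly.DimLT M (d + 1)) {x : PP} (hx : x ∈ CohB1.support M) :
    VarDim.deg (PP ↘ Spec (CommRingCat.of k)) x ≤ d := by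
  have h := HilbPoly.le_of_lt_succ hd
  rw [VarDim.topologicalKrullDim_set_eq_iSup_deg (PP ↘ Spec (CommRingCat.of k))
    (QCoh.isClosed_support_of_isFT hM.1 hM.2)] at h
  have := (le_iSup (fun z : CohB1.support M =>
    ((VarDim.deg (PP ↘ Spec (CommRingCat.of k)) (z : PP) : ℕ∞) : WithBot ℕ∞)) ⟨x, hx⟩).trans h
  exact_mod_cast this

/-- A general hyperplane section of a pure sheaf is pure. -/
theorem exists_avoid_pure {M : (Proj (CohB1.polyGrading n k)).Modules} (hM : Coh.IsCoh M) {d : ℕ}
    (hpure : IsPureDeg M (d + 1)) (hd : HilbPoly.DimLT M (d + 2)) :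
    ∃ S : Set PP, S.Finite ∧ ∀ s : Coh.structureModule PP ⟶ Twist.twist (CohB1.polyGrading n k) 1,
      (∀ x, Curv2.IsWeakAssPoint M x → x ∈ CohB1.genLocus (Twist.twist (CohB1.polyGrading n k) 1) s) →
      (∀ x ∈ S, x ∈ CohB1.genLocus (Twist.twist (CohB1.polyGrading n k) 1) s) →
      IsPureDeg ((twF (-1)).obj (cokernel (mu s M))) d := by
  haveI : IsNoetherian PP := Proj16.isNoetherian_proj _
  obtain ⟨S, hS, hbad⟩ := exists_bad (PP ↘ Spec (CommRingCat.of k)) hM hpure
  refine ⟨S, hS, fun s hs hsS y hy => ?_⟩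
  haveI : Mono (mu s M) := mono_mu s hM hs
  have hC : Coh.IsCoh ((twF (-1)).obj (cokernel (mu s M))) :=
    isCoh_tw (QCoh.isCoh_cokernel hM.1 (isCoh_tw hM 1) _) _
  have hsupp := AssPtX.mem_support_of_isWeakAssPoint hy
  have hle := deg_le_of_dimLT hC (HilbBound.dimLT_quotient hM s hs hd) hsupp
  have hyc : Curv2.IsWeakAssPoint (cokernel (mu s M)) y :=
    AmpleNeg.isWeakAssPoint_of_tensor (PnCoh.Finite.isInvertible_twist (ProjRegular.coords k n) ProjRegular.coords_mem ProjRegular.coords_cover (-1)) hy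
  have hys := (support_cokernel_mu s hM hsupp).2
  by_contra hne
  exact hys (hsS y (hbad (PnCoh.Finite.isInvertible_twist (ProjRegular.coords k n) ProjRegular.coords_mem ProjRegular.coords_cover 1) s ‹_› y hys hyc (by omega)))

end Groth.Agent.GrothLem

end
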