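import Groth.Agent.GrothLem.Openness
import Groth.Agent.HilbBound.HNChain
import Groth.Prelude.Def_W4c2simpsonmod1HP

/-!
# Openness of the four semistability conditions
-/

set_option autoImplicit false
set_option linter.style.haveILetI false
set_option linter.unusedSectionVars false
set_option backward.isDefEq.respectTransparency false
set_option backward.isDefEq.respectTransparency.types false
set_option maxHeartbeats 1000000

universe u

open CategoryTheory CategoryTheory.Limits AlgebraicGeometry TopologicalSpace Opposite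

attribute [-instance] CategoryTheory.catToReflQuiver

noncomputable section

namespace Groth.Agent.GrothLem

open Groth.Agent StabCat
open scoped Groth.Agent.H23.PicMul

/-- Comparison of the second coefficients. -/
theorem coeff_le_of_eventually {P : Polynomial ℚ} {d : ℕ} (hP : P.natDegree ≤ d) (hd : P.coeff d = 0)
    (h : ∀ N : ℕ, ∃ m : ℕ, N ≤ m ∧ 0 ≤ P.eval (m : ℚ)) : 0 ≤ P.coeff (d - 1) := by
  rcases Nat.eq_zero_or_pos d with rfl | hd0
  · rw [Nat.zero_sub, hd]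
  · by_contra hc
    have hdeg : (-P).natDegree ≤ d - 1 := by
      rw [Polynomial.natDegree_neg]
      refine Polynomial.natDegree_le_iff_coeff_eq_zero.2 fun j hj => ?_
      rcases (show d ≤ j by omega).lt_or_eq with h' | h'
      · exact Polynomial.coeff_eq_zero_of_natDegree_lt (by omega)
      · rw [← h', hd]
    obtain ⟨N, hN⟩ := HilbPoly.eventually_pos hdeg (by rw [Polynomial.coeff_neg]; linarith)
    obtain ⟨m, hm, hm'⟩ := h N
    have := hN m hm
    rw [Polynomial.eval_neg] at this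
    linarith

theorem hatSlope_le_of_polyLE {d : ℕ} {ψ ψ' : Polynomial ℚ} (hψ : 0 < alpha d ψ) (he : alpha d ψ' = alpha d ψ)
    (hle : PolyLE ψ ψ') (h1 : ψ.natDegree ≤ d) (h2 : ψ'.natDegree ≤ d) : hatSlope d ψ ≤ hatSlope d ψ' := by
  obtain ⟨N₀, hN₀⟩ := hle
  have hc := coeff_le_of_eventually (P := ψ' - ψ) (d := d) ((Polynomial.natDegree_sub_le _ _).trans (max_le h2 h1))
    (by
      rw [Polynomial.coeff_sub, sub_eq_zero]
      exact mul_left_cancel₀ (Nat.cast_ne_zero.2 (Nat.factorial_ne_zero d)) he)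
    fun N => ⟨max N N₀, le_max_left _ _, by rw [Polynomial.eval_sub]; linarith [hN₀ _ (le_max_right N N₀)]⟩
  rw [hatSlope, hatSlope, he, div_le_div_iff_of_pos_right hψ, alpha, alpha]
  rw [Polynomial.coeff_sub] at hc
  exact mul_le_mul_of_nonneg_left (by linarith) (Nat.cast_nonneg _)

theorem hatSlope_le_of_not_redLT {d : ℕ} {ψ φ : Polynomial ℚ} (hψ : 0 < alpha d ψ) (hφ : 0 < alpha d φ)
    (h1 : ψ.natDegree ≤ d) (h2 : φ.natDegree ≤ d) (h : ¬ W4c2simpsonmod1.RedLT d ψ φ) :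
    hatSlope d φ ≤ hatSlope d ψ := by
  rw [HilbBound.redLT_w4_iff hψ hφ] at h
  have hc := coeff_le_of_eventually (P := alpha d φ • ψ - alpha d ψ • φ) (d := d)
    ((Polynomial.natDegree_sub_le _ _).trans
      (max_le ((Polynomial.natDegree_smul_le _ _).trans h1) ((Polynomial.natDegree_smul_le _ _).trans h2)))
    (by
      rw [Polynomial.coeff_sub, Polynomial.coeff_smul, Polynomial.coeff_smul, smul_eq_mul, smul_eq_mul, alpha, alpha]
      ring)
    fun N => by
      by_contra hN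
      exact h ⟨N, fun m hm => by
        have := not_le.1 fun h' => hN ⟨m, hm, h'⟩
        rw [Polynomial.eval_sub] at this
        linarith⟩
  rw [Polynomial.coeff_sub, Polynomial.coeff_smul, Polynomial.coeff_smul, smul_eq_mul, smul_eq_mul] at hc
  rw [hatSlope, hatSlope, div_le_div_iff₀ hφ hψ]
  show ((d - 1).factorial : ℚ) * φ.coeff (d - 1) * alpha d ψ ≤ ((d - 1).factorial : ℚ) * ψ.coeff (d - 1) * alpha d φ
  rw [mul_assoc, mul_assoc]
  exact mul_le_mul_of_nonneg_left (by linarith) (Nat.cast_nonneg _)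

theorem not_redLT_of_not_redLE {d : ℕ} {ψ φ : Polynomial ℚ} (h : ¬ W4c2simpsonmod1.RedLE d ψ φ) :
    ¬ W4c2simpsonmod1.RedLT d ψ φ :=
  fun ⟨N, hN⟩ => h ⟨N, fun m hm => (hN m hm).le⟩

theorem eval_le_of_polyLE {d : ℕ} {ψ ψ' : Polynomial ℚ} (hψ : 0 < alpha d ψ) (he : alpha d ψ' = alpha d ψ)
    (hle : PolyLE ψ ψ') :
    ∃ N : ℤ, ∀ m : ℤ, N ≤ m → ψ.eval (m : ℚ) / W4c2simpsonmod1.rankOf d ψ ≤
      ψ'.eval (m : ℚ) / W4c2simpsonmod1.rankOf d ψ' := by
  obtain ⟨N, hN⟩ := hle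
  refine ⟨N, fun m hm => ?_⟩
  obtain ⟨j, rfl⟩ : ∃ j : ℕ, m = (j : ℤ) := ⟨m.toNat, by omega⟩
  show _ / alpha d ψ ≤ _ / alpha d ψ'
  rw [he, div_le_div_iff_of_pos_right hψ, Int.cast_natCast]
  exact hN j (by omega)

theorem isDestab_redLE (d : ℕ) :
    IsDestab d fun φ ψ => alpha d ψ ≠ 0 ∧ ¬ W4c2simpsonmod1.RedLE d ψ φ where
  ne_zero _ _ h := h.1
  mono φ ψ ψ' _ hψ he hle _ _ _ h := by
    refine ⟨by rw [he]; exact hψ.ne', fun ⟨N, hN⟩ => h.2 ?_⟩
    obtain ⟨N', hN'⟩ := eval_le_of_polyLE hψ he hle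
    exact ⟨max N N', fun m hm => (hN' m ((le_max_right _ _).trans hm)).trans (hN m ((le_max_left _ _).trans hm))⟩
  slope φ ψ hφ hψ _ h1 h2 h := hatSlope_le_of_not_redLT hψ hφ h2 h1 (not_redLT_of_not_redLE h.2)

theorem isDestab_redLT (d : ℕ) :
    IsDestab d fun φ ψ => alpha d ψ ≠ 0 ∧ ψ ≠ φ ∧ ¬ W4c2simpsonmod1.RedLT d ψ φ where
  ne_zero _ _ h := h.1
  mono φ ψ ψ' hφ hψ he hle _ _ _ h := by
    obtain ⟨N', hN'⟩ := eval_le_of_polyLE hψ he hle
    refine ⟨by rw [he]; exact hψ.ne', fun h' => h.2.2 ?_, fun ⟨N, hN⟩ => h.2.2 ?_⟩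
    · subst h'
      obtain ⟨N₀, hN₀⟩ := hle
      rw [HilbBound.redLT_w4_iff hψ hφ]
      have hdiff : ψ' - ψ ≠ 0 := sub_ne_zero.2 (Ne.symm h.2.1)
      obtain ⟨B, hB⟩ := (((ψ' - ψ).roots.toFinset.image fun q : ℚ => ⌈q⌉₊).bddAbove)
      refine ⟨max N₀ (B + 1), fun m hm => ?_⟩
      have h1 := hN₀ m ((le_max_left _ _).trans hm)
      have h2 : (ψ' - ψ).eval (m : ℚ) ≠ 0 := fun hz => by
        have hmem : ⌈(m : ℚ)⌉₊ ∈ ((ψ' - ψ).roots.toFinset.image fun q : ℚ => ⌈q⌉₊) :=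
          Finset.mem_image_of_mem _ (Multiset.mem_toFinset.2 ((Polynomial.mem_roots hdiff).2 hz))
        have h3 := hB (Finset.mem_coe.2 hmem)
        rw [Nat.ceil_natCast] at h3
        have h4 := (le_max_right N₀ (B + 1)).trans hm
        omega
      rw [Polynomial.eval_sub] at h2
      have h3 : ψ.eval (m : ℚ) < ψ'.eval (m : ℚ) := lt_of_le_of_ne h1 fun hh => h2 (by rw [hh, sub_self])
      rw [he, Polynomial.eval_smul, Polynomial.eval_smul, smul_eq_mul, smul_eq_mul]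
      exact mul_lt_mul_of_pos_left h3 hψ
    · exact ⟨max N N', fun m hm =>
        (hN' m ((le_max_right _ _).trans hm)).trans_lt (hN m ((le_max_left _ _).trans hm))⟩
  slope φ ψ hφ hψ _ h1 h2 h := hatSlope_le_of_not_redLT hψ hφ h2 h1 h.2.2

theorem isDestab_slopeLE (d : ℕ) :
    IsDestab d fun φ ψ => alpha d ψ ≠ 0 ∧ ¬ W4c2simpsonmod1.slopeOf d ψ ≤ W4c2simpsonmod1.slopeOf d φ where
  ne_zero _ _ h := h.1
  mono φ ψ ψ' _ hψ he hle _ h1 h2 h :=
    ⟨by rw [he]; exact hψ.ne', fun h' => h.2 ((hatSlope_le_of_polyLE hψ he hle h1 h2).trans h')⟩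
  slope φ ψ _ _ _ _ _ h := (not_le.1 h.2).le

theorem isDestab_slopeLT (d : ℕ) :
    IsDestab d fun φ ψ => alpha d ψ ≠ 0 ∧ W4c2simpsonmod1.rankOf d ψ < W4c2simpsonmod1.rankOf d φ ∧
      ¬ W4c2simpsonmod1.slopeOf d ψ < W4c2simpsonmod1.slopeOf d φ where
  ne_zero _ _ h := h.1
  mono φ ψ ψ' _ hψ he hle _ h1 h2 h :=
    ⟨by rw [he]; exact hψ.ne', lt_of_eq_of_lt he h.2.1,
      fun h' => h.2.2 (lt_of_le_of_lt (hatSlope_le_of_polyLE hψ he hle h1 h2) h')⟩
  slope φ ψ _ _ _ _ _ h := not_lt.1 h.2.2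

variable {K : Type u} [Field K] {S : Scheme.{u}} {n : ℕ} {X : Scheme.{u}}
  (i : X ⟶ CohB1.ProjSpaceOver n S) [IsClosedImmersion i]

set_option quotPrecheck false in
local notation "π₀" => i ≫ CohB1.ProjSpaceOver.toBase n S
set_option quotPrecheck false in
local notation "O₁" => (Scheme.Modules.pullback i).obj (Twist.twistOver n S 1)

/-- The Euler characteristics of all twists. -/
theorem hilb_int_iff [IsNoetherian S] (t : Spec (CommRingCat.of K) ⟶ S) {G : (pullback π₀ t).Modules} (hG : Coh.IsCoh G)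
    (P : Polynomial ℚ) :
    (∀ m : ℤ, (@Curv2.euler K _ (pullback π₀ t) ⟨pullback.snd π₀ t⟩ (CohB1.tensorMod G
      ((Scheme.Modules.pullback (pullback.fst π₀ t ≫ i)).obj (Twist.twistOver n S m))) : ℚ) = P.eval (m : ℚ)) ↔
    @ShStab.IsHilbPoly K _ (pullback π₀ t) ⟨pullback.snd π₀ t⟩
      ((Scheme.Modules.pullback (pullback.fst π₀ t)).obj O₁) G P := by
  haveI : IsProper π₀ := QuotRep.isProper_comp i
  letI : (pullback π₀ t).Over (Spec (CommRingCat.of K)) := ⟨pullback.snd π₀ t⟩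
  haveI : IsProper ((pullback π₀ t) ↘ Spec (CommRingCat.of K)) := inferInstanceAs (IsProper (pullback.snd π₀ t))
  obtain ⟨r, hrc, hr, hrtw⟩ := exists_fibre_embedding i t
  haveI := hrc
  let Lt := (Scheme.Modules.pullback (pullback.fst π₀ t)).obj O₁
  have h1 : ∀ m : ℤ, Curv2.euler K (pullback π₀ t) (CohB1.tensorMod G
      ((Scheme.Modules.pullback (pullback.fst π₀ t ≫ i)).obj (Twist.twistOver n S m))) =
      Curv2.euler K (pullback π₀ t) (Pic13.twistOn K r G m) := fun m => by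
    obtain ⟨e⟩ := hrtw m
    refine CurveCohLib.euler_congr (k := K) (H23.PicMul.cl_eq_iff.1 ?_).some
    rw [Pic13.twistOn, H23.PicMul.cl_tensor, H23.PicMul.cl_tensor,
      H23.PicMul.cl_eq_iff.2 ⟨((Scheme.Modules.pullbackComp _ _).app _).symm ≪≫ e.symm⟩]
  have h2 : ∀ j : ℕ, Curv2.euler K (pullback π₀ t) (Pic13.twistOn K r G (j : ℤ)) =
      Curv2.euler K (pullback π₀ t) (ShStab.twist (pullback π₀ t) Lt G j) := fun j =>
    CurveCohLib.euler_congr (k := K) (H23.PicMul.cl_eq_iff.1 (by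
      rw [ShStab.twist, H23.PicMul.cl_tensor, H23.PicMul.cl_tensorPow, TauNum.cl_twistOn_natCast,
        H23.PicMul.cl_eq_iff.2 (hrtw 1)])).some
  constructor
  · intro h j
    have h3 := h (j : ℤ)
    rw [h1, h2, Int.cast_natCast] at h3
    exact h3
  · intro h m
    rw [h1, ← GrothLem.chi_pushforward r hr hG]
    have hb : Nonempty ((Scheme.Modules.pullback r).obj (Twist.twistProjSpace n K 1) ≅ CohB1.tensorPow Lt 1) :=
      H23.PicMul.cl_eq_iff.1 (by rw [H23.PicMul.cl_tensorPow, pow_one]; exact H23.PicMul.cl_eq_iff.2 (hrtw 1))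
    rw [chi_pushforward_hilb r hr hb hG h, Nat.cast_one, Polynomial.C_1, one_mul, Polynomial.comp_X]

/-- Positivity and the isomorphism criterion for submodules of the fibre. -/
theorem sub_data [IsNoetherian S] (t : Spec (CommRingCat.of K) ⟶ S) {F : X.Modules} (hF : Coh.IsCoh F) {d : ℕ}
    (hdim : topologicalKrullDim ↥(CohB1.support ((Scheme.Modules.pullback (pullback.fst π₀ t)).obj F)) =
      (d : WithBot ℕ∞))
    (hpure : ShStab.IsPure (pullback π₀ t) ((Scheme.Modules.pullback (pullback.fst π₀ t)).obj F) d)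
    {G : (pullback π₀ t).Modules} (ι : G ⟶ (Scheme.Modules.pullback (pullback.fst π₀ t)).obj F) (hι' : Mono ι)
    (hG : Coh.IsCoh G) (hG0 : ¬ IsZero G) {φ ψ : Polynomial ℚ}
    (hφ : @ShStab.IsHilbPoly K _ (pullback π₀ t) ⟨pullback.snd π₀ t⟩
      ((Scheme.Modules.pullback (pullback.fst π₀ t)).obj O₁) ((Scheme.Modules.pullback (pullback.fst π₀ t)).obj F) φ)
    (hψ : @ShStab.IsHilbPoly K _ (pullback π₀ t) ⟨pullback.snd π₀ t⟩
      ((Scheme.Modules.pullback (pullback.fst π₀ t)).obj O₁) G ψ) :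
    0 < alpha d ψ ∧ (IsIso ι ↔ ψ = φ) := by
  haveI := hι'
  haveI : IsProper π₀ := QuotRep.isProper_comp i
  haveI : IsLocallyNoetherian X := LocallyOfFiniteType.isLocallyNoetherian π₀
  letI : (pullback π₀ t).Over (Spec (CommRingCat.of K)) := ⟨pullback.snd π₀ t⟩
  haveI : IsProper ((pullback π₀ t) ↘ Spec (CommRingCat.of K)) := inferInstanceAs (IsProper (pullback.snd π₀ t))
  have hL : CohB1.IsAmple ((Scheme.Modules.pullback (pullback.fst π₀ t)).obj O₁) :=
    (AmpleX.isRelAmple_iff_isAmple (pullback.snd π₀ t) _).1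
      (AmpleX.isRelAmple_baseChange π₀ t (QuotRep.isRelAmple_O1 i))
  have hFt : Coh.IsCoh ((Scheme.Modules.pullback (pullback.fst π₀ t)).obj F) := ZClosLib.isCoh_pullback _ hF
  refine ⟨HilbPoly.alpha_pos (k := K) hL hG (hpure G ι inferInstance hG hG0) hψ, fun hι => ?_, fun he => ?_⟩
  · haveI := hι
    exact HilbPoly.isHilbPoly_unique (HilbPoly.hilb_iso (asIso ι) hψ) hφ
  · obtain ⟨hQc, hdQ, hpQ⟩ := HilbPoly.cokernel_data (k := K) hL hG hFt hdim.le ι hψ hφ
    rw [he, sub_self] at hpQ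
    haveI : Epi ι := Preadditive.epi_of_isZero_cokernel ι (HilbPoly.isZero_of_hilb_zero hL hQc hdQ hpQ)
    exact isIso_of_mono_of_epi ι

/-- Openness for one notion, in terms of Euler characteristics of all twists. -/
theorem exists_open_int [IsAlgClosed K] (sS : S ⟶ Spec (CommRingCat.of K)) [IsNoetherian S]
    [LocallyOfFiniteType sS] [IsSeparated sS] {d : ℕ} {Bad : Polynomial ℚ → Polynomial ℚ → Prop}
    (hBad : IsDestab d Bad) {F : X.Modules} (hF : Coh.IsCoh F) (hflat : FlatMod.IsFlatOver π₀ F)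
    (hpure : ∀ t : Spec (CommRingCat.of K) ⟶ S, t ≫ sS = 𝟙 _ →
      topologicalKrullDim ↥(CohB1.support ((Scheme.Modules.pullback (pullback.fst π₀ t)).obj F)) = (d : WithBot ℕ∞) ∧
        ShStab.IsPure (pullback π₀ t) ((Scheme.Modules.pullback (pullback.fst π₀ t)).obj F) d) :
    ∃ U : S.Opens, ∀ t : Spec (CommRingCat.of K) ⟶ S, t ≫ sS = 𝟙 _ →
      ((∀ (G : (pullback π₀ t).Modules) (ι : G ⟶ (Scheme.Modules.pullback (pullback.fst π₀ t)).obj F),
          Mono ι → Coh.IsCoh G → ¬ IsZero G → ∀ φ ψ : Polynomial ℚ,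
          (∀ m : ℤ, (@Curv2.euler K _ (pullback π₀ t) ⟨pullback.snd π₀ t⟩
            (CohB1.tensorMod ((Scheme.Modules.pullback (pullback.fst π₀ t)).obj F)
              ((Scheme.Modules.pullback (pullback.fst π₀ t ≫ i)).obj (Twist.twistOver n S m))) : ℚ) =
              φ.eval (m : ℚ)) →
          (∀ m : ℤ, (@Curv2.euler K _ (pullback π₀ t) ⟨pullback.snd π₀ t⟩
            (CohB1.tensorMod G
              ((Scheme.Modules.pullback (pullback.fst π₀ t ≫ i)).obj (Twist.twistOver n S m))) : ℚ) =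
              ψ.eval (m : ℚ)) →
          ¬ Bad φ ψ) ↔ Set.range t.base ⊆ (U : Set S)) := by
  obtain ⟨U, hU⟩ := exists_open_of_destab i hBad hF hflat hpure
  haveI : IsProper π₀ := QuotRep.isProper_comp i
  haveI : IsLocallyNoetherian X := LocallyOfFiniteType.isLocallyNoetherian π₀
  refine ⟨U, fun t ht => Iff.trans ?_ (hU t ht)⟩
  have hFt : Coh.IsCoh ((Scheme.Modules.pullback (pullback.fst π₀ t)).obj F) := ZClosLib.isCoh_pullback _ hF
  constructor
  · intro h G ι hι hG hG0 φ ψ hφ hψ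
    exact h G ι hι hG hG0 φ ψ ((hilb_int_iff i t hFt φ).2 hφ) ((hilb_int_iff i t hG ψ).2 hψ)
  · intro h G ι hι hG hG0 φ ψ hφ hψ
    exact h G ι hι hG hG0 φ ψ ((hilb_int_iff i t hFt φ).1 hφ) ((hilb_int_iff i t hG ψ).1 hψ)

end Groth.Agent.GrothLem

end
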